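import Cfsg.Agent.Lib.Fusion.PComplement
import Cfsg.Agent.Lib.Fusion.AlperinGoldschmidt
import Cfsg.Agent.Lib.PGroup.OmegaOdd
import Cfsg.Agent.Lib.Coprime.Action

/-!
# Trivial fusion of the elements of order `p`

For odd `p`, if the elements of every `p`-local subgroup fix the elements of order `p` they
normalize, there is a normal `p`-complement; so a perfect group has order prime to `p`.
-/

set_option autoImplicit false
set_option linter.style.haveILetI false
set_option linter.unusedSectionVars false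

open Subgroup

namespace CfsgLib.IsoRankTwo

open CfsgLib.Fusion (conjBy)
open CfsgLib.Fusion.Goldschmidt (Good GChain exists_gchain)

universe u

variable {G : Type u} [Group G] [Finite G] {p : ℕ} [hp : Fact p.Prime]

/-- An element of a local subgroup acts as an element of the Sylow subgroup. -/
theorem exists_inner (hp2 : p ≠ 2) {P : Subgroup G} (hP : IsPGroup p P) {E : Subgroup G} (hEP : E ≤ P)
    (hi : ¬ p ∣ (P ⊓ normalizer (E : Set G)).relIndex (normalizer (E : Set G)))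
    (hfix : ∀ e ∈ normalizer (E : Set G), ∀ a ∈ E, a ^ p = 1 → e * a * e⁻¹ = a) {g : G}
    (hg : g ∈ normalizer (E : Set G)) : ∃ u ∈ P, ∀ a ∈ E, g⁻¹ * a * g = u⁻¹ * a * u := by
  set N := normalizer (E : Set G)
  set C := centralizer (E : Set G)
  have hCN : C ≤ N := centralizer_le_normalizer _
  haveI : (C.subgroupOf N).Normal := (normal_subgroupOf_iff_le_normalizer hCN).2
    (Coprime.normalizer_le_normalizer_centralizer E)
  have hq : IsPGroup p (↥N ⧸ C.subgroupOf N) := by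
    rintro ⟨a⟩
    obtain ⟨k, m, hm, hkm⟩ := Nat.exists_eq_pow_mul_and_not_dvd (orderOf_pos (a : G)).ne' p hp.out.ne_one
    refine ⟨k, (QuotientGroup.eq_one_iff (a ^ p ^ k)).2 (mem_subgroupOf.2 ?_)⟩
    rw [SubmonoidClass.coe_pow]
    have hord : ¬ p ∣ orderOf ((a : G) ^ p ^ k) := fun hd => hm (hd.trans (by
      refine orderOf_dvd_of_pow_eq_one ?_
      rw [← pow_mul, ← hkm, pow_orderOf_eq_one]))
    refine mem_centralizer_iff.2 fun b hb => ?_
    exact (PGroup.commute_of_fix_omega_odd hp2 (hP.to_le hEP) (pow_mem a.2 _) hord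
      (fun c hc hc1 => mul_inv_eq_iff_eq_mul.1 (hfix _ (pow_mem a.2 _) c hc hc1)) b hb).eq.symm
  set T := (P ⊓ N).subgroupOf N
  obtain ⟨j, hj⟩ := hq.exists_card_eq
  have h1 : (T ⊔ C.subgroupOf N).index ∣ p ^ j :=
    hj ▸ (index_eq_card (C.subgroupOf N)) ▸ index_dvd_of_le le_sup_right
  have h2 : ¬ p ∣ (T ⊔ C.subgroupOf N).index := fun hd => hi (hd.trans (index_dvd_of_le le_sup_left))
  obtain ⟨i, -, hi'⟩ := (Nat.dvd_prime_pow hp.out).1 h1
  have htop : T ⊔ C.subgroupOf N = ⊤ := by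
    rcases Nat.eq_zero_or_pos i with rfl | hi0
    · exact index_eq_one.1 (hi'.trans (pow_zero p))
    · exact absurd (hi' ▸ dvd_pow_self p hi0.ne') h2
  obtain ⟨t, ht, c, hc, htc⟩ := mem_sup_of_normal_right.1 (htop ▸ mem_top (⟨g⁻¹, inv_mem hg⟩ : ↥N))
  have e : g⁻¹ = (t : G) * c := (congrArg Subtype.val htc).symm
  refine ⟨(t : G)⁻¹, inv_mem (mem_inf.1 (mem_subgroupOf.1 ht)).1, fun a ha => ?_⟩
  have hca : a * (c : G) = c * a := mem_centralizer_iff.1 (mem_subgroupOf.1 hc) a ha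
  have eg : g = (c : G)⁻¹ * (t : G)⁻¹ := by rw [← _root_.mul_inv_rev, ← e, inv_inv]
  rw [e, eg, inv_inv, show (t : G) * c * a * ((c : G)⁻¹ * (t : G)⁻¹) = t * ((c : G) * a) * (c : G)⁻¹ * (t : G)⁻¹ by group,
    ← hca]
  group

/-- Trivial fusion of the elements of order `p` gives a normal `p`-complement. -/
theorem hasNormalPComplement_of_omega (hp2 : p ≠ 2) (P : Sylow p G)
    (hfix : ∀ S : Subgroup G, S ≤ (P : Subgroup G) → ∀ e ∈ normalizer (S : Set G), ∀ a ∈ S,
      a ^ p = 1 → e * a * e⁻¹ = a) : Cfsg.HasNormalPComplement p G := by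
  have hchain : ∀ (D : Subgroup G) (g : G), GChain P D g →
      ∃ u ∈ (P : Subgroup G), ∀ a ∈ D, g⁻¹ * a * g = u⁻¹ * a * u := by
    intro D g hg
    induction hg with
    | nil D => exact ⟨1, one_mem _, fun a _ => rfl⟩
    | @cons D g E y hE hy hD _ ih =>
      obtain ⟨u₁, hu₁, h1⟩ := exists_inner hp2 P.2 hE.1 hE.2.2.2 (fun e he => hfix E hE.1 e he) hy
      obtain ⟨u₂, hu₂, h2⟩ := ih
      refine ⟨u₁ * u₂, mul_mem hu₁ hu₂, fun a ha => ?_⟩
      have h3 := h2 (y⁻¹ * a * y) ⟨a, ha, by simp⟩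
      rw [h1 a (hD ha)] at h3
      rw [show (y * g)⁻¹ * a * (y * g) = g⁻¹ * (y⁻¹ * a * y) * g by group, h1 a (hD ha), h3]
      group
  refine Fusion.hasNormalPComplement_of_noExtraFusion P
    (Fusion.noExtraFusion_of_forall_conj_eq P fun Q hQ g hg => ?_)
  obtain ⟨D, c, h, hAD, -, hc, hh, he⟩ := exists_gchain P (Q : Set G) g⁻¹ hQ (by
    rintro _ ⟨a, ha, rfl⟩
    show g⁻¹⁻¹ * a * g⁻¹ ∈ _
    rw [inv_inv]
    exact hg (Fusion.conj_mem_conjBy ha))
  obtain ⟨u, hu, hua⟩ := hchain D h hh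
  refine ⟨u⁻¹, inv_mem hu, fun a ha => ?_⟩
  have eg : g = h⁻¹ * c⁻¹ := by rw [← inv_inv g, he, _root_.mul_inv_rev]
  rw [inv_inv, ← hua a (hAD ha), eg, show h⁻¹ * c⁻¹ * a * (h⁻¹ * c⁻¹)⁻¹ = h⁻¹ * (c⁻¹ * (a * c)) * h by group,
    mem_centralizer_iff.1 hc a ha, inv_mul_cancel_left]

/-- A perfect group with trivial fusion of elements of order `p` has order prime to `p`. -/
theorem sylow_eq_bot_of_omega (hp2 : p ≠ 2) {L R : Subgroup G} (hL : ⁅L, L⁆ = L) (hRL : R ≤ L)
    (hR : IsPGroup p R) (hRi : ¬ p ∣ R.relIndex L)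
    (hfix : ∀ S : Subgroup G, S ≤ R → ∀ e ∈ L, e ∈ normalizer (S : Set G) → ∀ a ∈ S,
      a ^ p = 1 → e * a * e⁻¹ = a) : R = ⊥ := by
  let P : Sylow p ↥L := (hR.of_equiv (subgroupOfEquivOfLe hRL).symm).toSylow hRi
  have hcomp : Cfsg.HasNormalPComplement p ↥L := by
    refine hasNormalPComplement_of_omega hp2 P fun S hS e he a ha hap => Subtype.ext ?_
    refine hfix (S.map L.subtype) ?_ e e.2 ?_ a ⟨a, ha, rfl⟩ (congrArg Subtype.val hap)
    · rintro _ ⟨s, hs, rfl⟩
      exact mem_subgroupOf.1 (hS hs)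
    · exact le_normalizer_map L.subtype ⟨e, he, rfl⟩
  obtain ⟨Q, N, hN, hc⟩ := hcomp
  haveI := hN
  have hq : IsPGroup p (↥L ⧸ N) := Q.2.of_equiv hc.symm.QuotientMulEquiv.symm
  haveI := hq.isNilpotent
  have hperf : _root_.commutator ↥L = ⊤ := by
    refine map_injective L.subtype_injective ?_
    rw [map_subtype_commutator, hL, ← MonoidHom.range_eq_map, range_subtype]
  have hbot : _root_.commutator (↥L ⧸ N) = ⊤ := by
    rw [_root_.commutator_def, ← map_top_of_surjective _ (QuotientGroup.mk'_surjective N), ← map_commutator,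
      ← _root_.commutator_def, hperf, map_top_of_surjective _ (QuotientGroup.mk'_surjective N)]
  have htriv : N = ⊤ := by
    by_contra hne
    haveI : Nontrivial (↥L ⧸ N) := QuotientGroup.nontrivial_iff.2 hne
    haveI : Group.IsPerfect (↥L ⧸ N) := ⟨hbot⟩
    exact Group.IsPerfect.not_isNilpotent (↥L ⧸ N) hq.isNilpotent
  have h1 : Nat.card (Q : Subgroup ↥L) = 1 := by rw [← hc.symm.index_eq_card, htriv, index_top]
  refine eq_bot_of_card_eq _ ?_
  rw [← Nat.card_congr (subgroupOfEquivOfLe hRL).toEquiv]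
  exact P.card_eq_multiplicity.trans (Q.card_eq_multiplicity.symm.trans h1)

end CfsgLib.IsoRankTwo
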