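import Cfsg.Agent.Lib.PGroup.GruenFirst
import Cfsg.Agent.Lib.PGroup.Isolated
import Mathlib.GroupTheory.Transfer

/-!
# An isolated element is not the value of a power homomorphism

If the `q`-th power map of a Sylow `p`-subgroup `P` is multiplicative and kills the derived group,
then an isolated element of order `p` in the image survives the transfer from `N(P)` and the
elements of `P` fused into `P'` do not; by Grün's theorem `P` is not in the derived group.
-/

set_option autoImplicit false
set_option linter.style.haveILetI false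
set_option linter.unusedSectionVars false

open Subgroup
open scoped commutatorElement

namespace CfsgLib.IsoRankTwo

universe u

variable {G : Type u} [Group G] [Finite G] {p : ℕ} [hp : Fact p.Prime]

/-- A power homomorphism killing the derived group of a Sylow subgroup misses the isolated
elements of order `p`. -/
theorem false_of_powerHom (P : Sylow p G) (hPG : (P : Subgroup G) ≤ _root_.commutator G)
    (q : ℕ) (hmul : ∀ a ∈ (P : Subgroup G), ∀ b ∈ (P : Subgroup G), (a * b) ^ q = a ^ q * b ^ q)
    (hder : ∀ c ∈ ⁅(P : Subgroup G), (P : Subgroup G)⁆, c ^ q = 1)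
    {x : G} (hx : orderOf x = p) (hiso : Cfsg.IsIsolated x) {u : G} (hu : u ∈ (P : Subgroup G))
    (hux : u ^ q = x) : False := by
  classical
  set N := normalizer ((P : Subgroup G) : Set G) with hN
  set H : Subgroup N := (P : Subgroup G).subgroupOf N with hH
  haveI : H.Normal := normal_in_normalizer
  set W : Subgroup G := closure {y | ∃ a ∈ (P : Subgroup G), y = a ^ q} with hW
  have hcomm : ∀ y ∈ {y | ∃ a ∈ (P : Subgroup G), y = a ^ q},
      ∀ z ∈ {y | ∃ a ∈ (P : Subgroup G), y = a ^ q}, y * z = z * y := by
    rintro y ⟨a, ha, rfl⟩ z ⟨b, hb, rfl⟩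
    have h1 : a * b = ⁅a, b⁆ * (b * a) := by rw [commutatorElement_def]; group
    have hc : ⁅a, b⁆ ∈ (P : Subgroup G) := by
      rw [commutatorElement_def]
      exact mul_mem (mul_mem (mul_mem ha hb) (inv_mem ha)) (inv_mem hb)
    rw [← hmul a ha b hb, h1, hmul _ hc _ (mul_mem hb ha),
      hder _ (commutator_mem_commutator ha hb), one_mul, hmul b hb a ha]
  haveI : IsMulCommutative W := isMulCommutative_closure hcomm
  letI : CommGroup W := { (inferInstance : Group W) with mul_comm := mul_comm' }
  let φ : H →* W := MonoidHom.mk'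
    (fun h => ⟨((h : N) : G) ^ q, subset_closure ⟨_, mem_subgroupOf.1 h.2, rfl⟩⟩)
    (fun a b => Subtype.ext (by
      simpa using hmul _ (mem_subgroupOf.1 a.2) _ (mem_subgroupOf.1 b.2)))
  have hφ : ∀ h : H, ((h : N) : G) ^ q = 1 → φ h = 1 := fun h hh => Subtype.ext hh
  -- elements killed by the power map die under the transfer
  have hker : ∀ (w : N) (hw : (w : G) ∈ (P : Subgroup G)), (w : G) ^ q = 1 →
      MonoidHom.transfer φ w = 1 := by
    intro w hw hwq
    letI := Fintype.ofFinite (Quotient (MulAction.orbitRel (zpowers w) (N ⧸ H)))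
    rw [MonoidHom.transfer_eq_prod_quotient_orbitRel_zpowers_quot]
    refine Finset.prod_eq_one fun i _ => hφ _ ?_
    simp only [Subgroup.coe_mul, Subgroup.coe_inv, SubmonoidClass.coe_pow]
    have h := conj_pow (i := q) (a := ((i.out.out : N) : G)⁻¹)
      (b := (w : G) ^ Function.minimalPeriod (fun a => w • a) i.out)
    rw [inv_inv] at h
    rw [h, ← pow_mul, mul_comm, pow_mul, hwq, one_pow, mul_one, inv_mul_cancel]
  have hxP : x ∈ (P : Subgroup G) := hux ▸ pow_mem hu q
  have hfix : ∀ n : N, (n : G) * x * (n : G)⁻¹ = x := fun n => by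
    refine hiso n ?_
    have h1 : (n : G) * x * (n : G)⁻¹ ∈ (P : Subgroup G) :=
      (mem_normalizer_iff.1 n.2 x).1 hxP
    exact (mem_centralizer_singleton_iff.1 (Isolated.le_centralizer hiso P.2 hxP h1)).symm
  set U : N := ⟨u, le_normalizer hu⟩ with hU
  have hUH : U ∈ H := mem_subgroupOf.2 hu
  have hper : ∀ a : N ⧸ H, Function.minimalPeriod (fun b => U • b) a = 1 := fun a => by
    refine Function.minimalPeriod_eq_one_iff_isFixedPt.2 ?_
    induction a using QuotientGroup.induction_on with
    | _ n =>
      show ((U * n : N) : N ⧸ H) = (n : N ⧸ H)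
      rw [QuotientGroup.eq]
      have := (inferInstance : H.Normal).conj_mem _ (inv_mem hUH) n⁻¹
      simpa [mul_assoc] using this
  -- the transfer of `u` is a nontrivial power of `x`
  letI := Fintype.ofFinite (Quotient (MulAction.orbitRel (zpowers U) (N ⧸ H)))
  have hne : MonoidHom.transfer φ U ≠ 1 := by
    rw [MonoidHom.transfer_eq_prod_quotient_orbitRel_zpowers_quot]
    have hx1 : x ∈ W := hux ▸ subset_closure ⟨u, hu, rfl⟩
    rw [Finset.prod_congr rfl (g := fun _ => (⟨x, hx1⟩ : W)) fun i _ => Subtype.ext (by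
      show ((((i.out.out : N)⁻¹ * U ^ Function.minimalPeriod (fun b => U • b) i.out * i.out.out : N)) : G) ^ q = x
      rw [hper, pow_one]
      simp only [Subgroup.coe_mul, Subgroup.coe_inv, hU]
      have h := conj_pow (i := q) (a := ((i.out.out : N) : G)⁻¹) (b := u)
      rw [inv_inv] at h
      rw [h, hux]
      simpa using hfix (i.out.out)⁻¹)]
    rw [Finset.prod_const]
    intro h
    have h2 : x ^ (Finset.univ : Finset (Quotient (MulAction.orbitRel (zpowers U) (N ⧸ H)))).card = 1 :=
      congrArg Subtype.val h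
    have hd := hx ▸ orderOf_dvd_iff_pow_eq_one.2 h2
    have hi : H.index = (Finset.univ : Finset (Quotient (MulAction.orbitRel (zpowers U) (N ⧸ H)))).card := by
      rw [index_eq_sum_minimalPeriod H U, Finset.sum_congr rfl fun i _ => hper i.out,
        Finset.sum_const, smul_eq_mul, mul_one]
    rw [← hi] at hd
    exact (P.subtype (le_normalizer : (P : Subgroup G) ≤ N)).not_dvd_index hd
  -- the kernel contains the right hand side of Grün's theorem
  set K : Subgroup G := ((MonoidHom.transfer φ).ker).map N.subtype with hK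
  have hle : Gruen.gruenR P ≤ K := by
    refine sup_le ?_ (iSup_le fun z => ?_)
    · intro w hw
      refine (?_ : ⁅N, N⁆ ≤ K) hw.2
      rw [hK, commutator_le]
      intro a ha b hb
      exact ⟨⁅(⟨a, ha⟩ : N), ⟨b, hb⟩⁆, Abelianization.commutator_subset_ker _
        (commutator_mem_commutator (mem_top _) (mem_top _)), rfl⟩
    · rintro _ ⟨hw, c, hc, rfl⟩
      refine ⟨⟨_, le_normalizer hw⟩, hker _ hw ?_, rfl⟩
      show (MulAut.conj z c) ^ q = 1
      rw [← map_pow, hder c hc, map_one]
  obtain ⟨U', hU', he⟩ := hle (Gruen.gruen_first P ▸ mem_inf.2 ⟨hu, hPG hu⟩)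
  obtain rfl : U' = U := Subtype.ext he
  exact hne hU'

end CfsgLib.IsoRankTwo
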