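import Cfsg.Agent.Lib.IsolatedRankTwo.ThreeTorus
import Cfsg.Agent.Lib.Fusion.Transfer
import Mathlib.GroupTheory.Abelianization.Defs

/-!
# No maximal class of even exponent

The average over `N(P)` of the conjugates of the image in `P / γ₂` is invariant under all fusion in
`P`: on the two step centralizer because the power map onto the isolated centre is, and elsewhere
because an essential subgroup supplies an element of `N(P)` inverting it. So `P` is not in the
derived group.
-/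

set_option autoImplicit false
set_option linter.style.haveILetI false
set_option linter.unusedSectionVars false

open Subgroup
open scoped commutatorElement Classical

namespace CfsgLib.IsoRankTwo

open CfsgLib.MaxClassShift (gam gam_normal gam_anti gam_comm)
open CfsgLib.MaxClassUniform (Uniform)
open CfsgLib.MCFusion
open CfsgLib.Fusion (conjBy)
open CfsgLib.Fusion.Goldschmidt (Good GChain exists_gchain)

universe u

variable {G : Type u} [Group G] [Finite G] [hf3 : Fact (Nat.Prime 3)]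

section norm

variable (P : Sylow 3 G)

/-- Conjugation by an element of `N(P)` on the abelianization. -/
noncomputable def normAct (n : ↥(normalizer ((P : Subgroup G) : Set G))) :
    ↥(P : Subgroup G) →* Abelianization ↥(P : Subgroup G) :=
  Abelianization.of.comp ((P : Subgroup G).normalizerMonoidHom n : ↥(P : Subgroup G) →* ↥(P : Subgroup G))

theorem normAct_mul_mem (n k : ↥(normalizer ((P : Subgroup G) : Set G))) (hk : (k : G) ∈ (P : Subgroup G))
    (a : ↥(P : Subgroup G)) : normAct P (n * k) a = normAct P n a := by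
  have e : (P : Subgroup G).normalizerMonoidHom k a = (⟨k, hk⟩ : ↥(P : Subgroup G)) * a * ⟨k, hk⟩⁻¹ :=
    Subtype.ext rfl
  show Abelianization.of ((P : Subgroup G).normalizerMonoidHom (n * k) a) =
    Abelianization.of ((P : Subgroup G).normalizerMonoidHom n a)
  rw [map_mul, MulAut.mul_apply, e]
  simp only [map_mul, map_inv]
  rw [mul_comm (Abelianization.of _), mul_inv_cancel_right]

noncomputable instance : Fintype (↥(normalizer ((P : Subgroup G) : Set G)) ⧸
    (P : Subgroup G).subgroupOf (normalizer ((P : Subgroup G) : Set G))) := Fintype.ofFinite _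

/-- The product of the conjugates over `N(P) / P`. -/
noncomputable def normSum : ↥(P : Subgroup G) →* Abelianization ↥(P : Subgroup G) :=
  ∏ q : ↥(normalizer ((P : Subgroup G) : Set G)) ⧸
      (P : Subgroup G).subgroupOf (normalizer ((P : Subgroup G) : Set G)), normAct P q.out

theorem normSum_conj (n : ↥(normalizer ((P : Subgroup G) : Set G))) (a : ↥(P : Subgroup G)) :
    normSum P ((P : Subgroup G).normalizerMonoidHom n a) = normSum P a := by
  haveI : ((P : Subgroup G).subgroupOf (normalizer ((P : Subgroup G) : Set G))).Normal :=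
    normal_in_normalizer
  simp only [normSum, MonoidHom.finsetProd_apply]
  refine (Finset.prod_congr rfl fun q _ => ?_).trans
    (Equiv.prod_comp (Equiv.mulRight (n : ↥(normalizer ((P : Subgroup G) : Set G)) ⧸
      (P : Subgroup G).subgroupOf (normalizer ((P : Subgroup G) : Set G))))
      (fun q => normAct P q.out a))
  have h1 : normAct P q.out ((P : Subgroup G).normalizerMonoidHom n a) = normAct P (q.out * n) a := by
    show Abelianization.of _ = Abelianization.of ((P : Subgroup G).normalizerMonoidHom (q.out * n) a)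
    rw [map_mul, MulAut.mul_apply]
    rfl
  rw [h1, Equiv.coe_mulRight]
  set r := (q * (n : ↥(normalizer ((P : Subgroup G) : Set G)) ⧸
    (P : Subgroup G).subgroupOf (normalizer ((P : Subgroup G) : Set G)))).out
  have hk : r⁻¹ * (q.out * n) ∈ (P : Subgroup G).subgroupOf (normalizer ((P : Subgroup G) : Set G)) := by
    rw [← QuotientGroup.eq, QuotientGroup.out_eq', QuotientGroup.mk_mul, QuotientGroup.out_eq']
  rw [show q.out * n = r * (r⁻¹ * (q.out * n)) by rw [mul_inv_cancel_left],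
    normAct_mul_mem P _ _ (mem_subgroupOf.1 hk)]

end norm

/-- The subgroup of elements of order at most three in a group of maximal class of order 27. -/
theorem exists_omega {E : Subgroup G} {w : ↥E} (hw : Uniform w 3 3) (hne : ∃ a ∈ E, a ^ 3 ≠ 1) :
    ∃ F ≤ E, Nat.card F = 9 ∧ normalizer (E : Set G) ≤ normalizer (F : Set G) ∧
      ∀ a ∈ E, a ^ 3 = 1 → a ∈ F := by
  have hcen : ∀ {z : ↥E}, z ∈ gam ↥E 2 → (∀ g : ↥E, z * g = g * z) ∧ z ^ 3 = 1 := fun {z} hz =>
    ⟨fun g => (comm_gam_central hw hz g).symm, by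
      have h1 : (⟨z, hz⟩ : gam ↥E 2) ^ Nat.card (gam ↥E 2) = 1 := pow_card_eq_one'
      rw [hw.card_gam le_rfl (by norm_num), show (3 : ℕ) - 2 = 1 from rfl, pow_one] at h1
      exact congrArg Subtype.val h1⟩
  let φ : ↥E →* ↥E := MonoidHom.mk' (fun a => a ^ 3) fun a b => by
    obtain ⟨h1, h2⟩ := hcen (gam_comm (a := 1) (b := 1) le_rfl le_rfl (mem_top a) (mem_top b))
    exact mul_pow_three_of_central (w := ⁅a, b⁆) (by rw [commutatorElement_def]; group) h1 h2
  have hr : φ.range ≤ gam ↥E 2 := by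
    rintro _ ⟨a, rfl⟩
    exact CfsgLib.PGroup.MaxClassRank.pow_mem_two hw.isPGroup hw.card hw.three hw.class_eq a
  have hr3 : Nat.card φ.range = 3 := by
    have h1 := card_le_of_le hr
    rw [hw.card_gam le_rfl (by norm_num), show (3 : ℕ) - 2 = 1 from rfl, pow_one] at h1
    obtain ⟨i, hi⟩ := (hw.isPGroup.to_subgroup φ.range).exists_card_eq
    rcases Nat.eq_zero_or_pos i with rfl | hi0
    · obtain ⟨a, ha, ha3⟩ := hne
      have h2 : φ ⟨a, ha⟩ ∈ φ.range := ⟨_, rfl⟩
      rw [eq_bot_of_card_eq _ (hi.trans (pow_zero 3)), mem_bot] at h2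
      exact absurd (congrArg Subtype.val h2) ha3
    · have := Nat.le_pow hi0 (a := 3)
      omega
  refine ⟨φ.ker.map E.subtype, map_subtype_le _, ?_, normalizer_le_normalizer_aut fun Φ v hv => ?_,
    fun a ha ha3 => ⟨⟨a, ha⟩, Subtype.ext ha3, rfl⟩⟩
  · rw [card_map_of_injective E.subtype_injective]
    have e := φ.ker.card_mul_index
    rw [index_ker, hr3, hw.card] at e
    omega
  · show (Φ v) ^ 3 = 1
    rw [← map_pow, show v ^ 3 = 1 from hv, map_one]

namespace Setting

variable {P : Sylow 3 G} {x : G} {m : ℕ} (h : Setting P x m)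
include h

/-- Fusion inside the two step centralizer is trivial modulo the derived group. -/
theorem levOne_conj {g a : G} (ha : a ∈ levOne (P : Subgroup G))
    (hga : g * a * g⁻¹ ∈ levOne (P : Subgroup G)) : a⁻¹ * (g * a * g⁻¹) ∈ gamTwo (P : Subgroup G) := by
  obtain ⟨w, hw⟩ := h.uni
  obtain ⟨a', ha', hae⟩ := ha
  obtain ⟨b', hb', hbe⟩ := hga
  have hz := h.mem_zpowers_of_last (theta_mem hw rfl h.two ha')
  set q := 3 ^ (m - 1)
  have hfix : g * (a' ^ q : ↥(P : Subgroup G)) * g⁻¹ = ((a' ^ q : ↥(P : Subgroup G)) : G) := by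
    obtain ⟨i, hi⟩ := mem_zpowers_iff.1 hz
    rw [← hi]
    by_cases hi1 : x ^ i = 1
    · rw [hi1, mul_one, mul_inv_cancel]
    have heq := eq_of_le_of_card_ge (zpowers_le.2 (zpow_mem (mem_zpowers x) i)) (by
      rw [Nat.card_zpowers, Nat.card_zpowers, h.ord, orderOf_eq_prime (p := 3) ?_ hi1]
      rw [← zpow_natCast, ← zpow_mul, mul_comm, zpow_mul, zpow_natCast, ← h.ord, pow_orderOf_eq_one,
        one_zpow])
    obtain ⟨j, hj⟩ := mem_zpowers_iff.1 (heq.ge (mem_zpowers x))
    have hgx : g * x * g⁻¹ = x := by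
      refine Isolated.conj_eq h.iso P.2 h.mem ?_
      rw [← hj, ← conj_zpow]
      refine zpow_mem ?_ j
      rw [hi, SubmonoidClass.coe_pow, ← conj_pow, show (a' : G) = a from hae, ← show (b' : G) = _ from hbe]
      exact pow_mem b'.2 q
    rw [← conj_zpow, hgx]
  refine ⟨a'⁻¹ * b', ?_, by simp only [map_mul, map_inv]; rw [hae, hbe]⟩
  by_contra hne
  refine theta_ne hw rfl h.two h.rankP (mul_mem (inv_mem ha') hb') hne (Subtype.ext ?_)
  rw [theta_mul hw rfl h.two (inv_mem ha') hb', inv_pow, Subgroup.coe_mul, Subgroup.coe_inv,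
    SubmonoidClass.coe_pow b', show (b' : G) = _ from hbe, conj_pow, ← show (a' : G) = a from hae,
    ← SubmonoidClass.coe_pow a', hfix, inv_mul_cancel]
  rfl

theorem normSum_gamTwo {a : G} (ha : a ∈ gamTwo (P : Subgroup G)) (haP : a ∈ (P : Subgroup G)) :
    normSum P ⟨a, haP⟩ = 1 := by
  have h1 : (⟨a, haP⟩ : ↥(P : Subgroup G)) ∈ commutator ↥(P : Subgroup G) := by
    rw [← Subgroup.top_lowerCentralSeries_one]
    exact (mem_gamTwo haP).1 ha
  exact Abelianization.commutator_subset_ker (normSum P) h1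

/-- The norm is invariant under fusion inside the two step centralizer. -/
theorem normSum_levOne {g a : G} (ha : a ∈ levOne (P : Subgroup G))
    (hga : g * a * g⁻¹ ∈ levOne (P : Subgroup G)) (haP : a ∈ (P : Subgroup G))
    (hgP : g * a * g⁻¹ ∈ (P : Subgroup G)) : normSum P ⟨g * a * g⁻¹, hgP⟩ = normSum P ⟨a, haP⟩ := by
  have h1 := h.normSum_gamTwo (h.levOne_conj ha hga) (mul_mem (inv_mem haP) hgP)
  rw [show (⟨a⁻¹ * (g * a * g⁻¹), mul_mem (inv_mem haP) hgP⟩ : ↥(P : Subgroup G)) =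
    (⟨a, haP⟩ : ↥(P : Subgroup G))⁻¹ * ⟨g * a * g⁻¹, hgP⟩ from rfl, map_mul, map_inv,
    inv_mul_eq_one] at h1
  exact h1.symm

/-- The norm does not vanish outside the derived group in the two step centralizer. -/
theorem normSum_ne {a : G} (haP : a ∈ (P : Subgroup G)) (ha : a ∈ levOne (P : Subgroup G))
    (ha2 : a ∉ gamTwo (P : Subgroup G)) : normSum P ⟨a, haP⟩ ≠ 1 := by
  obtain ⟨w, hw⟩ := h.uni
  set N := normalizer ((P : Subgroup G) : Set G)
  intro hc
  have hone : ∀ n : ↥N, normAct P n ⟨a, haP⟩ = Abelianization.of ⟨a, haP⟩ := by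
    intro n
    have hP' : (n : G) * a * (n : G)⁻¹ ∈ (P : Subgroup G) := (mem_normalizer_iff.1 n.2 a).1 haP
    have hlev : (n : G) * a * (n : G)⁻¹ ∈ levOne (P : Subgroup G) :=
      (mem_levOne hP').2 (map_lev_mem hw ((P : Subgroup G).normalizerMonoidHom n) ((mem_levOne haP).1 ha))
    have h1 := h.levOne_conj ha hlev
    show Abelianization.of (⟨(n : G) * a * (n : G)⁻¹, hP'⟩ : ↥(P : Subgroup G)) = _
    rw [eq_comm, ← inv_mul_eq_one, ← map_inv, ← map_mul]
    refine (QuotientGroup.eq_one_iff _).2 ?_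
    rw [← Subgroup.top_lowerCentralSeries_one]
    exact (mem_gamTwo (mul_mem (inv_mem haP) hP')).1 h1
  rw [normSum, MonoidHom.finsetProd_apply, Finset.prod_congr rfl fun q _ => hone q.out,
    Finset.prod_const, Finset.card_univ, ← Nat.card_eq_fintype_card, ← index_eq_card] at hc
  have hcop : Nat.Coprime (orderOf (Abelianization.of (⟨a, haP⟩ : ↥(P : Subgroup G))))
      ((P : Subgroup G).subgroupOf N).index := by
    obtain ⟨k, hk⟩ := (P.2 : IsPGroup 3 ↥(P : Subgroup G)) ⟨a, haP⟩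
    have h1 : orderOf (Abelianization.of (⟨a, haP⟩ : ↥(P : Subgroup G))) ∣ 3 ^ k :=
      orderOf_dvd_of_pow_eq_one (by rw [← map_pow, hk, map_one])
    refine Nat.Coprime.of_dvd_left h1 (Nat.Coprime.pow_left k (hf3.out.coprime_iff_not_dvd.2 ?_))
    exact (P.subtype (le_normalizer : (P : Subgroup G) ≤ N)).not_dvd_index
  have h2 := orderOf_eq_one_iff.1 (Nat.eq_one_of_dvd_coprimes hcop dvd_rfl (orderOf_dvd_of_pow_eq_one hc))
  refine ha2 ((mem_gamTwo haP).2 ?_)
  have h3 := (QuotientGroup.eq_one_iff _).1 h2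
  rwa [← Subgroup.top_lowerCentralSeries_one] at h3

/-- An element of the normalizer of a large subgroup climbs to `N(P)`. -/
theorem climb {E : Subgroup G} (hE : Nat.card E = 27) (he : ∀ a ∈ E, a ^ 3 = 1) (hxE : x ∈ E) {e : G}
    (heE : e ∈ E) (he1 : e ∉ levOne (P : Subgroup G)) :
    ∀ R : Subgroup G, E ≤ R → R ≤ (P : Subgroup G) → 81 ≤ Nat.card R → ∀ τ ∈ normalizer (R : Set G),
      ∃ τ' ∈ normalizer ((P : Subgroup G) : Set G), τ' * e * τ'⁻¹ = τ * e * τ⁻¹ := by
  intro R
  induction hd : Nat.card (P : Subgroup G) - Nat.card R using Nat.strong_induction_on generalizing R with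
  | _ d ih =>
    intro hER hRP h81 τ hτ
    by_cases hP : R = (P : Subgroup G)
    · exact ⟨τ, hP ▸ hτ, rfl⟩
    obtain ⟨k, -, hk, hu⟩ := h.uniform_sub hRP (hER heE) he1 (hER hxE) (by omega)
    have hk4 : 4 ≤ k := by
      by_contra hc
      have h1 := h81.trans (hk.le.trans (Nat.pow_le_pow_right (by norm_num) (show k ≤ 3 by omega)))
      norm_num at h1
    obtain ⟨S⟩ := nonempty_series_maxClass hu hk4
    have hi := h.sylow_normalizer hRP hP hER hE he
    set T := (P : Subgroup G) ⊓ normalizer (R : Set G) with hT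
    obtain ⟨c, hc, hcT, -⟩ := S.exists_normalizer (P.2.to_le hRP) (centralizer_le_normalizer _)
      (P.2.to_le inf_le_left) inf_le_right hi hτ
    have hRT : R ≤ T := le_inf hRP le_normalizer
    have hlt : R < T := by
      haveI := P.2.isNilpotent
      obtain ⟨y, hyP, hyN, hy⟩ := Isolated.exists_mem_normalizer_inf hRP fun hc => hP (le_antisymm hRP hc)
      exact lt_of_le_of_ne hRT fun e' => hy (e'.ge ⟨hyP, hyN⟩)
    have hTP' : T ≤ (P : Subgroup G) := inf_le_left
    have h3 := three_mul_card_le (P.2.to_le hTP') hlt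
    have hTP := card_le_of_le hTP'
    obtain ⟨τ', hτ', he'⟩ := ih (Nat.card (P : Subgroup G) - Nat.card T) (by omega) T rfl
      (hER.trans hRT) inf_le_left (by omega) (c * τ) hcT
    refine ⟨τ', hτ', ?_⟩
    rw [he', show c * τ * e * (c * τ)⁻¹ = c * (τ * e * τ⁻¹) * c⁻¹ by group,
      ← mem_centralizer_iff.1 hc _ ((mem_normalizer_iff.1 hτ e).1 (hER heE)), mul_inv_cancel_right]

/-- Members of the conjugation family other than `P` have no invariant series. -/
theorem false_of_series {E : Subgroup G} (hgood : Good P E) (hne : E ≠ (P : Subgroup G))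
    (S : Series 3 (normalizer (E : Set G)) E) : False := by
  haveI := P.2.isNilpotent
  obtain ⟨y, hyP, hyN, hy⟩ :=
    Isolated.exists_mem_normalizer_inf hgood.1 fun hc => hne (le_antisymm hgood.1 hc)
  exact hy (S.normalizer_le P hgood ⟨hyP, hyN⟩)

/-- The norm vanishes on the members of the conjugation family outside the two step centralizer. -/
theorem normSum_outside {E : Subgroup G} (hgood : Good P E) (hne : E ≠ (P : Subgroup G))
    (hout : ¬ E ≤ levOne (P : Subgroup G)) {a : G} (ha : a ∈ E) :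
    normSum P ⟨a, hgood.1 ha⟩ = 1 := by
  obtain ⟨w, hw⟩ := h.uni
  have hm := h.two
  have hEP := hgood.1
  have hEp : IsPGroup 3 E := P.2.to_le hEP
  have hxE : x ∈ E := inf_corePP_le P hgood ⟨h.mem, hgood.2.1 (mem_centralizer_iff.2 fun b hb =>
    (mem_centralizer_singleton_iff.1 (Isolated.le_centralizer h.iso P.2 h.mem (hEP hb))))⟩
  obtain ⟨v, hv, hv1⟩ := SetLike.not_le_iff_exists.1 hout
  obtain ⟨k, hk⟩ := hEp.exists_card_eq
  have hk2 : 2 ≤ k := by
    have hlt : zpowers x < E := lt_of_le_of_ne (zpowers_le.2 hxE) fun e =>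
      hv1 ((zpowers_le.2 h.mem_levOne_self) (e.ge hv))
    have := three_mul_card_le hEp hlt
    rw [Nat.card_zpowers, h.ord, hk] at this
    by_contra hc
    have := this.trans (Nat.pow_le_pow_right (show 3 > 0 by norm_num) (show k ≤ 1 by omega))
    norm_num at this
  have hZ := h.normalizer_le_zpowers hEP hxE
  rcases hk2.eq_or_lt with rfl | hk3
  · obtain ⟨S⟩ := nonempty_series_nine h.ord hxE (hk.trans (by norm_num)) le_rfl hZ
    exact (h.false_of_series hgood hne S).elim
  have h27 : 27 ≤ Nat.card E := by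
    rw [hk]; exact le_trans (by norm_num) (Nat.pow_le_pow_right (show 3 > 0 by norm_num) hk3)
  obtain ⟨k', -, hk', hu⟩ := h.uniform_sub hEP hv hv1 hxE h27
  obtain rfl : k' = k := Nat.pow_right_injective (show 2 ≤ 3 by norm_num) (hk'.symm.trans hk)
  rcases (show 3 ≤ k' from hk3).eq_or_lt with rfl | hk4
  swap
  · obtain ⟨S⟩ := nonempty_series_maxClass hu hk4
    exact (h.false_of_series hgood hne S).elim
  have hE : Nat.card E = 27 := hk.trans (by norm_num)
  by_cases hexp : ∀ b ∈ E, b ^ 3 = 1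
  swap
  · push Not at hexp
    obtain ⟨F, hFE, hF, hNF, hFm⟩ := exists_omega hu hexp
    obtain ⟨S⟩ := nonempty_series_flag h.ord (hFm x hxE (by rw [← h.ord, pow_orderOf_eq_one])) hFE hF
      hE le_rfl hNF hZ
    exact (h.false_of_series hgood hne S).elim
  set F := E ⊓ levOne (P : Subgroup G) with hF
  have hxF : x ∈ F := mem_inf.2 ⟨hxE, h.mem_levOne_self⟩
  have hFlt : F < E := lt_of_le_of_ne inf_le_left fun e => hv1 (e.ge hv : v ∈ F).2
  have hF2 : ∀ b ∈ F, b ∈ gamTwo (P : Subgroup G) := by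
    rintro b ⟨hbE, b', hb', rfl⟩
    exact ⟨b', gam_anti (by omega) (mem_of_cube_eq_one hw (by omega) h.rankP hb' (Subtype.ext (hexp _ hbE))),
      rfl⟩
  have hF9 : Nat.card F = 9 := by
    have h1 := three_mul_card_le hEp hFlt
    obtain ⟨i, hi⟩ := (hEp.to_le (inf_le_left : F ≤ E)).exists_card_eq
    rw [hE] at h1
    have h2 : 9 ≤ Nat.card F := by
      by_contra hc
      have h3 : (levOne (P : Subgroup G)).relIndex (P : Subgroup G) = 3 := by
        rw [relIndex, subgroupOf, levOne, comap_map_eq_self_of_injective (P : Subgroup G).subtype_injective,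
          lev_one, CfsgLib.MaxClassEss.index_twoStepAt hw le_rfl (by omega)]
      have hlev : (levOne (P : Subgroup G)).relIndex E ≤ 3 :=
        (relIndex_le_of_le_right hEP (by rw [h3]; norm_num)).trans h3.le
      have e := relIndex_mul_relIndex (⊥ : Subgroup G) F E bot_le inf_le_left
      rw [relIndex_bot_left, relIndex_bot_left, hE, hF, inf_comm, inf_relIndex_right] at e
      have hc' : Nat.card F ≤ 8 := by omega
      rw [hF, inf_comm] at hc'
      nlinarith
    omega
  have hEN : E ≤ normalizer (F : Set G) := by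
    intro s hs
    have key : ∀ s ∈ E, ∀ b ∈ F, s * b * s⁻¹ ∈ F := fun s hs b hb => by
      refine mem_inf.2 ⟨mul_mem (mul_mem hs hb.1) (inv_mem hs), ?_⟩
      exact (mem_levOne (mul_mem (mul_mem (hEP hs) (hEP hb.1)) (inv_mem (hEP hs)))).2
        ((lev_normal hw 1).conj_mem _ ((mem_levOne (hEP hb.1)).1 hb.2) ⟨s, hEP hs⟩)
    refine mem_normalizer_iff.2 fun b => ⟨key s hs b, fun hb => ?_⟩
    have := key s⁻¹ (inv_mem hs) _ hb
    simpa [mul_assoc] using this
  by_cases hfix : ∀ y ∈ normalizer (E : Set G), ∀ f ∈ F, y * f * y⁻¹ ∈ levOne (P : Subgroup G)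
  · have hNF : normalizer (E : Set G) ≤ normalizer (F : Set G) := fun y hy =>
      CfsgLib.Fusion.conjBy_eq_iff.1 (CfsgLib.Fusion.conjBy_eq_of_le (CfsgLib.Fusion.conjBy_le_iff.2
        fun f hf => mem_inf.2 ⟨(mem_normalizer_iff.1 hy f).1 hf.1, hfix y hy f hf⟩))
    obtain ⟨S⟩ := nonempty_series_flag h.ord hxF inf_le_left hF9 hE le_rfl hNF hZ
    exact (h.false_of_series hgood hne S).elim
  push Not at hfix
  obtain ⟨y, hy, f, hf, hyf⟩ := hfix
  obtain ⟨e, heE, he1, τ, hτ, hτF, hτe⟩ := h.exists_torus hEP hE hexp hxE hy hf hyf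
  -- climb to the normalizer of `P`
  set T := (P : Subgroup G) ⊓ normalizer (E : Set G) with hT
  set H := normalizer (E : Set G) ⊓ normalizer (F : Set G) with hH
  obtain ⟨S⟩ := nonempty_series_flag h.ord hxF inf_le_left hF9 hE (inf_le_left : H ≤ _) inf_le_right
    (inf_le_left.trans hZ)
  have hTH : T ≤ H := le_inf inf_le_right fun t ht => by
    refine CfsgLib.Fusion.conjBy_eq_iff.1 (CfsgLib.Fusion.conjBy_eq_of_le (CfsgLib.Fusion.conjBy_le_iff.2
      fun b hb => mem_inf.2 ⟨(mem_normalizer_iff.1 ht.2 b).1 hb.1, ?_⟩))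
    exact (mem_levOne (mul_mem (mul_mem ht.1 (hEP hb.1)) (inv_mem ht.1))).2
      ((lev_normal hw 1).conj_mem _ ((mem_levOne (hEP hb.1)).1 hb.2) ⟨t, ht.1⟩)
  have hTi : ¬ 3 ∣ T.relIndex H := fun hd => hgood.2.2.2 (hd.trans (by
    rw [← relIndex_mul_relIndex T H (normalizer (E : Set G)) hTH inf_le_left]; exact dvd_mul_right _ _))
  have hCH : centralizer (E : Set G) ≤ H := le_inf (centralizer_le_normalizer _) fun c hc =>
    CfsgLib.Fusion.conjBy_eq_iff.1 (CfsgLib.Fusion.conjBy_eq_of_le (CfsgLib.Fusion.conjBy_le_iff.2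
      fun b hb => by rw [← mem_centralizer_iff.1 hc b hb.1, mul_inv_cancel_right]; exact hb))
  obtain ⟨c, hc, hcT, -⟩ := S.exists_normalizer hEp hCH (P.2.to_le inf_le_left) hTH hTi (mem_inf.2 ⟨hτ, hτF⟩)
  have hET : E ≤ T := le_inf hEP le_normalizer
  have hlt : E < T := by
    haveI := P.2.isNilpotent
    obtain ⟨s, hsP, hsN, hs⟩ := Isolated.exists_mem_normalizer_inf hEP fun hc => hne (le_antisymm hEP hc)
    exact lt_of_le_of_ne hET fun e' => hs (e'.ge ⟨hsP, hsN⟩)
  have hTP' : T ≤ (P : Subgroup G) := inf_le_left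
  have h81 := three_mul_card_le (P.2.to_le hTP') hlt
  obtain ⟨τ', hτ', hτ'e⟩ := h.climb hE hexp hxE heE he1 T hET inf_le_left (by omega) (c * τ) hcT
  rw [show c * τ * e * (c * τ)⁻¹ = c * (τ * e * τ⁻¹) * c⁻¹ by group,
    ← mem_centralizer_iff.1 hc _ ((mem_normalizer_iff.1 hτ e).1 heE), mul_inv_cancel_right] at hτ'e
  -- so the norm vanishes at `e`
  set eP : ↥(P : Subgroup G) := ⟨e, hEP heE⟩
  have hx2 : τ * e * τ⁻¹ * e ∈ gamTwo (P : Subgroup G) := (zpowers_le.2 h.mem_gamTwo_self) hτe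
  have h1 : normSum P ((P : Subgroup G).normalizerMonoidHom ⟨τ', hτ'⟩ eP * eP) = 1 := by
    refine Eq.trans (congrArg (normSum P) (Subtype.ext ?_)) (h.normSum_gamTwo hx2
      (mul_mem (hEP ((mem_normalizer_iff.1 hτ e).1 heE)) (hEP heE)))
    show τ' * e * τ'⁻¹ * e = _
    rw [hτ'e]
  rw [map_mul, normSum_conj] at h1
  have he3 : normSum P eP ^ 3 = 1 := by
    rw [← map_pow, show eP ^ 3 = 1 from Subtype.ext (hexp e heE), map_one]
  have he1' : normSum P eP = 1 := by
    rw [pow_succ, pow_two, h1, one_mul] at he3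
    exact he3
  have hFker : ∀ b (hb : b ∈ F), normSum P ⟨b, hEP hb.1⟩ = 1 := fun b hb => h.normSum_gamTwo (hF2 b hb) _
  rcases coset_trichotomy hEp inf_le_left (by rw [hE, hF9]) hEN heE (fun hc => he1 hc.2) (hexp e heE) ha
    with h2 | h2 | h2
  · exact hFker a h2
  · have h3 := hFker _ h2
    rw [show (⟨a * e⁻¹, hEP h2.1⟩ : ↥(P : Subgroup G)) = ⟨a, hEP ha⟩ * eP⁻¹ from rfl, map_mul, map_inv,
      he1', inv_one, mul_one] at h3
    exact h3
  · have h3 := hFker _ h2
    rw [show (⟨a * e, hEP h2.1⟩ : ↥(P : Subgroup G)) = ⟨a, hEP ha⟩ * eP from rfl, map_mul, he1',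
      mul_one] at h3
    exact h3

/-- The norm is invariant along chains of the conjugation family. -/
theorem normSum_chain {D : Subgroup G} {g : G} (hg : GChain P D g) :
    ∀ a ∈ D, ∀ (ha : a ∈ (P : Subgroup G)), ∃ hb : g⁻¹ * a * g ∈ (P : Subgroup G),
      normSum P ⟨g⁻¹ * a * g, hb⟩ = normSum P ⟨a, ha⟩ := by
  induction hg with
  | nil D =>
    intro a _ ha
    exact ⟨by simpa using ha, congrArg (normSum P) (Subtype.ext (by simp))⟩
  | @cons D g E y hE hy hD _ ih =>
    intro a haD ha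
    have haE := hD haD
    have hbE : y⁻¹ * a * y ∈ E := (mem_normalizer_iff''.1 hy a).1 haE
    obtain ⟨hb, hb'⟩ := ih (y⁻¹ * a * y) ⟨a, haD, by simp⟩ (hE.1 hbE)
    have e : (y * g)⁻¹ * a * (y * g) = g⁻¹ * (y⁻¹ * a * y) * g := by group
    refine ⟨e ▸ hb, ?_⟩
    refine (congrArg (normSum P) (Subtype.ext e : (⟨_, e ▸ hb⟩ : ↥(P : Subgroup G)) = ⟨_, hb⟩)).trans
      (hb'.trans ?_)
    by_cases hne : E = (P : Subgroup G)
    · subst hne
      have h1 := normSum_conj P ⟨y, hy⟩⁻¹ ⟨a, ha⟩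
      refine Eq.trans (congrArg (normSum P) (Subtype.ext ?_)) h1
      show y⁻¹ * a * y = y⁻¹ * a * y⁻¹⁻¹
      rw [inv_inv]
    by_cases hout : E ≤ levOne (P : Subgroup G)
    · have h1 := h.normSum_levOne (g := y⁻¹) (hout haE) (by rw [inv_inv]; exact hout hbE) ha
        (by rw [inv_inv]; exact hE.1 hbE)
      refine Eq.trans (congrArg (normSum P) (Subtype.ext ?_)) h1
      show y⁻¹ * a * y = y⁻¹ * a * y⁻¹⁻¹
      rw [inv_inv]
    rw [h.normSum_outside hE hne hout hbE, h.normSum_outside hE hne hout haE]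

/-- Such a Sylow subgroup is not in the derived group. -/
theorem not_le_commutator : ¬ (P : Subgroup G) ≤ commutator G := by
  intro hle
  obtain ⟨w, hw⟩ := h.uni
  have hm := h.two
  obtain ⟨f, hf, hf'⟩ := exists_notMem_succ hw (by omega) (i := 1) le_rfl (by omega)
  have hfG : (f : G) ∈ commutator G ⊓ (P : Subgroup G) := ⟨hle f.2, f.2⟩
  rw [CfsgLib.Fusion.commutator_inf_eq_focal (CfsgLib.Fusion.coprime_card_focalQuotient P)] at hfG
  have hker : (P : Subgroup G).focalSubgroup ≤ (normSum P).ker.map (P : Subgroup G).subtype := by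
    rw [Subgroup.focalSubgroup_def, Subgroup.closure_le]
    rintro _ ⟨hxu, a, ha, u, rfl⟩
    have hc : u * a⁻¹ * u⁻¹ ∈ (P : Subgroup G) := by
      have h4 := mul_mem (inv_mem ha) hxu
      rwa [commutatorElement_def, show a⁻¹ * (a * u * a⁻¹ * u⁻¹) = u * a⁻¹ * u⁻¹ by group] at h4
    obtain ⟨D, c, k, hAD, hDP, hc', hk, he⟩ := exists_gchain P {a⁻¹} u⁻¹
      (Set.singleton_subset_iff.2 (inv_mem ha))
      (by rintro _ ⟨b, rfl, rfl⟩; show u⁻¹⁻¹ * a⁻¹ * u⁻¹ ∈ _; rw [inv_inv]; exact hc)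
    obtain ⟨hb, hb'⟩ := h.normSum_chain hk a⁻¹ (hAD rfl) (inv_mem ha)
    have e : k⁻¹ * a⁻¹ * k = u * a⁻¹ * u⁻¹ := by
      have h5 : u = k⁻¹ * c⁻¹ := by rw [← inv_inv u, he, mul_inv_rev]
      rw [h5, mul_inv_rev, inv_inv, inv_inv, show k⁻¹ * c⁻¹ * a⁻¹ * (c * k) = k⁻¹ * (c⁻¹ * (a⁻¹ * c)) * k by group,
        mem_centralizer_iff.1 hc' a⁻¹ rfl, inv_mul_cancel_left]
    refine ⟨⟨_, hxu⟩, ?_, rfl⟩
    show normSum P ⟨⁅a, u⁆, hxu⟩ = 1
    rw [show (⟨⁅a, u⁆, hxu⟩ : ↥(P : Subgroup G)) = ⟨a, ha⟩ * ⟨k⁻¹ * a⁻¹ * k, hb⟩ from Subtype.ext (by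
      show ⁅a, u⁆ = a * (k⁻¹ * a⁻¹ * k)
      rw [e, commutatorElement_def]; group), map_mul, hb',
      show (⟨a⁻¹, inv_mem ha⟩ : ↥(P : Subgroup G)) = (⟨a, ha⟩ : ↥(P : Subgroup G))⁻¹ from rfl, map_inv,
      mul_inv_cancel]
  obtain ⟨b, hb, hbe⟩ := hker hfG
  obtain rfl : b = f := Subtype.ext hbe
  exact h.normSum_ne b.2 ((mem_levOne b.2).2 hf) (fun hc => hf' ((mem_gamTwo b.2).1 hc)) hb

end Setting

end CfsgLib.IsoRankTwo
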