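import Cfsg.Agent.Lib.IsolatedRankTwo.PowerRoot
import Cfsg.Agent.Lib.IsolatedRankTwo.PowerTransfer
import Cfsg.Agent.Lib.IsolatedRankTwo.ThreeFusion
import Cfsg.Agent.Lib.PGroup.GenExtraspecialSplit
import Cfsg.Agent.Lib.PGroup.RankTwoThree
import Cfsg.Agent.S3888

/-!
# The Sylow subgroups containing the isolated element

In a perfect group of `p`-rank two with an isolated element of order `p` in a Sylow `p`-subgroup,
that subgroup is extraspecial of order `p³` and exponent `p`, or `p = 3` and it has maximal class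
and odd exponent of its order.
-/

set_option autoImplicit false
set_option linter.style.haveILetI false
set_option linter.unusedSectionVars false

open Subgroup
open scoped commutatorElement

namespace CfsgLib.IsoRankTwo

universe u

variable {G : Type u} [Group G] [Finite G] {p : ℕ} [hp : Fact p.Prime]

/-- An isolated element which is such a value forbids the perfectness. -/
theorem false_of_root (P : Sylow p G) (hPG : (P : Subgroup G) ≤ _root_.commutator G) {x : G}
    (hx : orderOf x = p) (hiso : Cfsg.IsIsolated x) (hxP : x ∈ (P : Subgroup G))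
    (hr : HasPowerRoot (⟨x, hxP⟩ : ↥(P : Subgroup G))) : False := by
  obtain ⟨q, hmul, hder, w, hw⟩ := hr
  refine false_of_powerHom P hPG q (fun a ha b hb => congrArg Subtype.val (hmul ⟨a, ha⟩ ⟨b, hb⟩))
    (fun c hc => ?_) hx hiso w.2 (congrArg Subtype.val hw)
  rw [← map_subtype_commutator] at hc
  obtain ⟨c', hc', rfl⟩ := hc
  exact congrArg Subtype.val (hder c' hc')

theorem sylow_structure (hp2 : p ≠ 2) (hperf : _root_.commutator G = ⊤) (hrk : Cfsg.PRankLE p 2 G)
    {x : G} (hx : orderOf x = p) (hiso : Cfsg.IsIsolated x) (P : Sylow p G)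
    (hxP : x ∈ (P : Subgroup G)) :
    (Cfsg.IsExtraspecial p ↥(P : Subgroup G) ∧ Nat.card (P : Subgroup G) = p ^ 3 ∧
        ∀ y ∈ (P : Subgroup G), y ^ p = 1) ∨
      (p = 3 ∧ ∃ k : ℕ, 2 ≤ k ∧ Nat.card (P : Subgroup G) = 3 ^ (2 * k + 1) ∧
        ∃ _ : Group.IsNilpotent ↥(P : Subgroup G),
          Group.nilpotencyClass ↥(P : Subgroup G) = 2 * k) := by
  classical
  set R := ↥(P : Subgroup G) with hRdef
  have hR : IsPGroup p R := P.2
  have hPG : (P : Subgroup G) ≤ _root_.commutator G := hperf ▸ le_top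
  set z : R := ⟨x, hxP⟩
  have hzc : ∀ r : R, r * z = z * r := fun r => Subtype.ext
    (mem_centralizer_singleton_iff.1 (Isolated.le_centralizer hiso P.2 hxP r.2))
  have hzo : orderOf z = p := by rw [← Subgroup.orderOf_coe, hx]
  have fal : HasPowerRoot z → False := false_of_root P hPG hx hiso hxP
  have hab : ¬ IsMulCommutative R := fun hc => fal
    ⟨1, fun a b => by simp, fun c hc' => by
      have h1 : _root_.commutator R = ⊥ := by
        rw [_root_.commutator_def, Subgroup.commutator_eq_bot_iff_le_centralizer]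
        exact fun a _ => mem_centralizer_iff.2 fun b _ => hc.is_comm.comm b a
      rw [h1, mem_bot] at hc'
      rw [hc', one_pow], z, pow_one z⟩
  obtain ⟨n, hn⟩ := hR.exists_card_eq
  have hrkR : Cfsg.PRankLE p 2 R := by
    intro A hA hAe
    haveI := hA
    have h1 := hrk (A.map (P : Subgroup G).subtype) inferInstance (by
      rintro _ ⟨y, hy, rfl⟩
      rw [← map_pow, hAe y hy, map_one])
    rwa [card_map_of_injective (P : Subgroup G).subtype_injective] at h1
  have hn3 : 3 ≤ n := by
    by_contra hc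
    rcases (show n = 2 ∨ n ≤ 1 by omega) with rfl | hn1
    · exact hab (IsPGroup.isMulCommutative_of_card_eq_prime_sq hn)
    · haveI : IsCyclic R := by
        rcases (show n = 0 ∨ n = 1 by omega) with rfl | rfl
        · haveI := (Nat.card_eq_one_iff_unique.1 (hn.trans (pow_zero p))).1
          exact isCyclic_of_subsingleton
        · exact isCyclic_of_prime_card (hn.trans (pow_one p))
      exact hab IsCyclic.isMulCommutative
  have hmeta : ¬ Cfsg.IsMetacyclic R := fun hm => fal (root_of_metacyclic hR hp2 hm hzc hzo)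
  rcases hn3.eq_or_lt with rfl | hn4
  · -- order `p³`
    have hexp : ∀ g : R, g ^ p = 1 := by
      intro g
      by_contra hg
      refine hmeta (RankTwoThree.metacyclic_of_index_le hR (x := g) ?_)
      obtain ⟨k, hk⟩ := hR.exists_orderOf_eq_pow g
      have hk2 : 2 ≤ k := by
        by_contra hc
        exact hg (orderOf_dvd_iff_pow_eq_one.1 (hk ▸ (pow_dvd_pow p (show k ≤ 1 by omega)).trans (pow_one p).dvd))
      have e := (zpowers g).card_mul_index
      rw [Nat.card_zpowers, hk, hn] at e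
      by_contra hc
      have h1 : p ^ 2 * p < p ^ k * (zpowers g).index :=
        lt_of_lt_of_le (Nat.mul_lt_mul_of_pos_left (Nat.lt_of_not_le hc) (pow_pos hp.out.pos 2))
          (Nat.mul_le_mul_right _ (Nat.pow_le_pow_right hp.out.pos hk2))
      rw [e, ← pow_succ] at h1
      exact lt_irrefl _ h1
    obtain ⟨a, b, hab'⟩ : ∃ a b : R, a * b ≠ b * a := by
      by_contra hc
      push Not at hc
      exact hab ⟨⟨hc⟩⟩
    exact Or.inl ⟨GenExtraspecial.isExtraspecial_of_cube hn hab' hexp, hn,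
      fun y hy => congrArg Subtype.val (hexp ⟨y, hy⟩)⟩
  -- maximal class
  have maxCase : p = 3 → (⊤ : Subgroup R).lowerCentralSeries (n - 2) ≠ ⊥ →
      (p = 3 ∧ ∃ k : ℕ, 2 ≤ k ∧ Nat.card (P : Subgroup G) = 3 ^ (2 * k + 1) ∧
        ∃ _ : Group.IsNilpotent R, Group.nilpotencyClass R = 2 * k) := by
    intro h3 hlcs
    subst h3
    haveI := hR.isNilpotent
    have hcl : Group.nilpotencyClass R = n - 1 := by
      refine le_antisymm (PGroup.nilpotencyClass_le_pred hR hn (by omega)) ?_
      by_contra hc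
      exact hlcs (Subgroup.lowerCentralSeries_eq_bot_iff_nilpotencyClass_le.2 (by omega))
    rcases Nat.even_or_odd n with ⟨m, rfl⟩ | ⟨k, rfl⟩
    · exfalso
      obtain ⟨w, hw, -⟩ := MaxClassUniform.exists_uniform (m + m) R hR hn (by omega) hcl ⊥ (by
        intro e
        have h1 := congrArg (fun H : Subgroup R => Nat.card H) e
        simp only [card_top, card_bot, hn] at h1
        exact (Nat.one_lt_pow (by omega) (by norm_num)).ne h1)
      exact ({ two := by omega, rank := hrk, uni := ⟨w, by rw [two_mul]; exact hw⟩, ord := hx,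
               iso := hiso, mem := hxP } : Setting P x m).not_le_commutator hPG
    · exact ⟨rfl, k, by omega, hn, inferInstance, by rw [hcl]; omega⟩
  have pres : ∀ {x₁ y₁ z₁ : R} {s ε : ℕ}, closure ({x₁, y₁, z₁} : Set R) = ⊤ → x₁ ^ p = 1 → y₁ ^ p = 1 →
      z₁ ^ p ^ (n - 2) = 1 → y₁ * z₁ = z₁ * y₁ → ¬ p ∣ s →
      x₁⁻¹ * y₁ * x₁ = y₁ * z₁ ^ (s * p ^ (n - 3)) → x₁⁻¹ * z₁ * x₁ = z₁ * y₁ ^ ε →
      (p = 3 ∧ ∃ k : ℕ, 2 ≤ k ∧ Nat.card (P : Subgroup G) = 3 ^ (2 * k + 1) ∧
        ∃ _ : Group.IsNilpotent R, Group.nilpotencyClass R = 2 * k) := by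
    intro x₁ y₁ z₁ s ε hg h1 h2 h3 h4 h5 h6 h7
    by_cases hmax : p = 3 ∧ (⊤ : Subgroup R).lowerCentralSeries (n - 2) ≠ ⊥
    · exact maxCase hmax.1 hmax.2
    refine (fal (root_of_presentation hR hp2 hrkR hn hn4 hg h1 h2 h3 h4 h5 h6 h7 ?_ hzc hzo)).elim
    rcases Nat.lt_or_ge n 5 with hn5 | hn5
    · obtain rfl : n = 4 := by omega
      by_cases hp3 : 3 < p
      · exact Or.inr (Or.inl hp3)
      have hp3' : p = 3 := by
        have := hp.out.two_le
        omega
      have h8 := not_not.1 (fun hne => hmax ⟨hp3', hne⟩)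
      refine Or.inr (Or.inr ?_)
      rw [← Subgroup.top_lowerCentralSeries_one]
      exact h8
    · exact Or.inl hn5
  rcases Cfsg.Agent.S3888.result hp2 n hn hrkR with hm | hC1 | hC2 | hM
  · exact (hmeta hm).elim
  · obtain ⟨-, x₁, y₁, z₁, hg, h1, h2, h3, h4, h5, h6⟩ := hC1
    exact Or.inr (pres (s := 1) (ε := 0) hg h1 h2 h3 h5 hp.out.not_dvd_one (by rwa [one_mul])
      (by rw [mul_assoc, ← h4, inv_mul_cancel_left, pow_zero, mul_one]))
  · obtain ⟨-, s, x₁, y₁, z₁, hs, hg, h1, h2, h3, h4, h5, h6⟩ := hC2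
    have hs' : ¬ p ∣ s := by
      rcases hs with rfl | hs
      · exact hp.out.not_dvd_one
      · intro hd
        exact hs ⟨0, by rw [(CharP.cast_eq_zero_iff (ZMod p) p s).2 hd, mul_zero]⟩
    exact Or.inr (pres (s := s) (ε := 1) hg h1 h2 h3 h4 hs' h5 (by rw [h6, pow_one, h4]))
  · exact Or.inr (maxCase hM.1 hM.2.2)

end CfsgLib.IsoRankTwo
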