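import Cfsg.Agent.Lib.IsolatedRankTwo.Reduce
import Cfsg.Agent.Lib.PGroup.RegularOmega
import Cfsg.Agent.Lib.PGroup.CyclicDerivedRegular
import Cfsg.Agent.Lib.PGroup.ClassThreePower
import Cfsg.Agent.Lib.PGroup.MaximalClassCenter
import Cfsg.Agent.Lib.PGroup.ElementaryBasic
import Cfsg.Prelude.Def_OddOrderLocal

/-!
# Central elements of order `p` as values of power homomorphisms

In a metacyclic `p`-group, and in the other `p`-groups of rank two which are not of
maximal class, a power map is a homomorphism killing the derived group and takes every central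
element of order `p` as a value.
-/

set_option autoImplicit false
set_option linter.style.haveILetI false
set_option linter.unusedSectionVars false

open Subgroup
open scoped commutatorElement

namespace CfsgLib.IsoRankTwo

universe u

variable {R : Type u} [Group R] [Finite R] {p : ℕ} [hp : Fact p.Prime]

/-- A power homomorphism killing the derived group takes the value `z`. -/
def HasPowerRoot (z : R) : Prop :=
  ∃ q : ℕ, (∀ a b : R, (a * b) ^ q = a ^ q * b ^ q) ∧ (∀ c ∈ _root_.commutator R, c ^ q = 1) ∧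
    ∃ w : R, w ^ q = z

theorem root_of_metacyclic (hR : IsPGroup p R) (hp2 : p ≠ 2) (hM : Cfsg.IsMetacyclic R)
    {z : R} (hz : ∀ r : R, r * z = z * r) (hzo : orderOf z = p) :
    HasPowerRoot z := by
  obtain ⟨N, hN, hNc, hQc⟩ := hM
  haveI := hN
  haveI := hNc
  haveI := hQc
  obtain ⟨⟨a, ha⟩, haN⟩ := hNc.exists_generator
  obtain ⟨bq, hbq⟩ := hQc.exists_generator
  obtain ⟨b, rfl⟩ := QuotientGroup.mk_surjective bq
  have hNa : ∀ n ∈ N, ∃ i : ℤ, a ^ i = n := fun n hn => by
    obtain ⟨i, hi⟩ := mem_zpowers_iff.1 (haN ⟨n, hn⟩)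
    exact ⟨i, congrArg Subtype.val hi⟩
  have hdec : ∀ r : R, ∃ j : ℤ, (b ^ j)⁻¹ * r ∈ N := fun r => by
    obtain ⟨j, hj⟩ := mem_zpowers_iff.1 (hbq (r : R ⧸ N))
    exact ⟨j, QuotientGroup.eq.1 (by rw [QuotientGroup.mk_zpow]; exact hj)⟩
  set d := ⁅a, b⁆ with hd
  have hdN : d ∈ N := by
    rw [hd, commutatorElement_def, mul_assoc, mul_assoc, ← mul_assoc b]
    exact mul_mem ha (hN.conj_mem _ (inv_mem ha) b)
  have hNcomm : ∀ u ∈ N, ∀ v ∈ N, Commute u v := fun u hu v hv => by
    obtain ⟨i, rfl⟩ := hNa u hu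
    obtain ⟨j, rfl⟩ := hNa v hv
    exact Commute.zpow_zpow_self a i j
  -- commutators with powers of the generator
  have hpow : ∀ i : ℤ, ⁅a ^ i, b⁆ = d ^ i := fun i => by
    have h1 : ⁅a ^ i, b⁆ = a ^ i * (b * a⁻¹ * b⁻¹) ^ i := by
      rw [conj_zpow, commutatorElement_def]; group
    rw [h1, ← (hNcomm a ha _ (hN.conj_mem _ (inv_mem ha) b)).mul_zpow, hd, commutatorElement_def]
    simp only [mul_assoc]
  have hdn : (zpowers d).Normal :=
    CfsgLib.RegularPowers.normal_zpowers_of_mem_cyclic (N := N) hdN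
  have hcd : _root_.commutator R = zpowers d := by
    refine le_antisymm ?_ (zpowers_le.2 (commutator_mem_commutator (mem_top a) (mem_top b)))
    haveI := hdn
    rw [_root_.commutator_def, commutator_le]
    intro r _ t _
    rw [← QuotientGroup.eq_one_iff, ← QuotientGroup.mk'_apply, map_commutatorElement,
      commutatorElement_eq_one_iff_commute]
    have hab : Commute (QuotientGroup.mk' (zpowers d) a) (QuotientGroup.mk' (zpowers d) b) := by
      rw [← commutatorElement_eq_one_iff_commute, ← map_commutatorElement]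
      exact (QuotientGroup.eq_one_iff _).2 (mem_zpowers d)
    obtain ⟨i, hi⟩ := hdec r
    obtain ⟨j, hj⟩ := hdec t
    obtain ⟨i', hi'⟩ := hNa _ hi
    obtain ⟨j', hj'⟩ := hNa _ hj
    rw [show r = b ^ i * a ^ i' by rw [hi', mul_inv_cancel_left],
      show t = b ^ j * a ^ j' by rw [hj', mul_inv_cancel_left]]
    simp only [map_mul, map_zpow]
    exact ((Commute.zpow_zpow_self _ i j).mul_right (hab.symm.zpow_zpow i j')).mul_left
      ((hab.zpow_zpow i' j).mul_right (Commute.zpow_zpow_self _ i' j'))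
  set q₀ := orderOf d with hq₀
  obtain ⟨e, he⟩ := hR.exists_orderOf_eq_pow d
  have hreg := (RegularPowers.isRegular_of_isCyclic_commutator hp2 hR (by
    rw [hcd]; exact Subgroup.isCyclic_zpowers d)).2
  have hrule : ∀ n, RegularPowers.PowRule R p n := fun n x y => hreg x y n
  have hder : ∀ c ∈ _root_.commutator R, c ^ q₀ = 1 := fun c hc => by
    rw [hcd] at hc
    obtain ⟨i, rfl⟩ := mem_zpowers_iff.1 hc
    rw [← zpow_natCast, ← zpow_mul, mul_comm, zpow_mul, zpow_natCast, hq₀, pow_orderOf_eq_one, one_zpow]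
  have hmul : ∀ x y : R, (x * y) ^ q₀ = x ^ q₀ * y ^ q₀ := fun x y => by
    rw [hq₀, he]
    exact RegularPowers.mul_pow_of_exponent (hrule e)
      (commutator_mono le_top le_top) (fun c hc => he ▸ hder c hc)
  -- elements of `N` commuting with `b` are powers
  have hroot : ∀ n ∈ N, Commute n b → ∃ w : R, w ^ q₀ = n := fun n hn hnb => by
    obtain ⟨i, rfl⟩ := hNa n hn
    have h1 := hpow i
    rw [commutatorElement_eq_one_iff_commute.2 hnb] at h1
    obtain ⟨t, rfl⟩ := orderOf_dvd_iff_zpow_eq_one.2 h1.symm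
    exact ⟨a ^ t, by rw [← zpow_natCast, ← zpow_mul, mul_comm, hq₀]⟩
  refine ⟨q₀, hmul, hder, ?_⟩
  by_cases hzN : z ∈ N
  · exact hroot z hzN (hz b).symm
  obtain ⟨f, hf⟩ := (hR.to_quotient N).exists_card_eq
  have hzq : orderOf (z : R ⧸ N) = p := orderOf_eq_prime
    (by rw [← QuotientGroup.mk_pow, ← hzo, pow_orderOf_eq_one]; rfl)
    fun h => hzN ((QuotientGroup.eq_one_iff z).1 h)
  have hbo : orderOf (b : R ⧸ N) = p ^ f := (orderOf_eq_card_of_forall_mem_zpowers hbq).trans hf
  have hf1 : 1 ≤ f := by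
    by_contra hc
    have h1 := orderOf_dvd_natCard (z : R ⧸ N)
    rw [hzq, hf, show f = 0 by omega, pow_zero, Nat.dvd_one] at h1
    exact hp.out.ne_one h1
  set q := p ^ (f - 1) with hq
  have hbqo : orderOf ((b : R ⧸ N) ^ q) = p := by
    rw [orderOf_pow' _ (pow_ne_zero _ hp.out.ne_zero), hbo,
      Nat.gcd_eq_right (pow_dvd_pow p (Nat.sub_le f 1)), Nat.pow_div (Nat.sub_le f 1) hp.out.pos,
      show f - (f - 1) = 1 by omega, pow_one]
  obtain ⟨k, hk⟩ : ∃ k : ℤ, (z : R ⧸ N) ^ k = (b : R ⧸ N) ^ q := by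
    obtain ⟨j, hj⟩ := mem_zpowers_iff.1 (hbq (z : R ⧸ N))
    have h1 : (z : R ⧸ N) ∈ zpowers ((b : R ⧸ N) ^ q) := by
      have h2 : (b : R ⧸ N) ^ (j * p) = 1 := by
        rw [zpow_mul, hj, zpow_natCast, ← hzq, pow_orderOf_eq_one]
      have h3 := orderOf_dvd_iff_zpow_eq_one.2 h2
      rw [hbo, show f = f - 1 + 1 by omega, pow_succ, Nat.cast_mul] at h3
      obtain ⟨t, rfl⟩ := Int.dvd_of_mul_dvd_mul_right (Int.natCast_ne_zero.2 hp.out.ne_zero) h3
      exact ⟨t, by simp only []; rw [← hj, zpow_mul, zpow_natCast, hq]⟩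
    exact mem_zpowers_iff.1 (zpowers_eq_of_mem hbqo h1 fun h => by
      rw [h, orderOf_one] at hzq; exact hp.out.ne_one hzq.symm)
  set n := (z ^ k)⁻¹ * b ^ q with hn
  have hnN : n ∈ N := QuotientGroup.eq.1 (by rw [QuotientGroup.mk_zpow, QuotientGroup.mk_pow]; exact hk)
  have hnb : Commute n b :=
    (((show Commute z b from (hz b).symm).zpow_left k).inv_left).mul_left (Commute.pow_self b q)
  obtain ⟨v, hv⟩ := hroot n hnN hnb
  have hba : Commute (b ^ q) a := by
    rw [show b ^ q = z ^ k * n by rw [hn, mul_inv_cancel_left]]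
    exact ((show Commute z a from (hz a).symm).zpow_left k).mul_left (hNcomm n hnN a ha)
  have hdq : q₀ ∣ q := by
    refine orderOf_dvd_of_pow_eq_one ?_
    have h1 : (a * b * a⁻¹) ^ q = b ^ q := by
      rw [conj_pow, ← hba.eq, mul_inv_cancel_right]
    have h2 := ((RegularPowers.pow_eq_iff hR (hrule (f - 1)) _ ⊤ rfl _ (mem_top _) _ (mem_top _)).1 h1)
    rwa [← commutatorElement_def] at h2
  obtain ⟨r, hr⟩ := hdq
  let φ : R →* R := MonoidHom.mk' (fun x => x ^ q₀) hmul
  have hzk : z ^ k ∈ φ.range := by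
    refine ⟨b ^ r * v⁻¹, ?_⟩
    show (b ^ r * v⁻¹) ^ q₀ = z ^ k
    rw [hmul, ← pow_mul, mul_comm r, ← hr, inv_pow, hv]
    have hcc : Commute (b ^ q) n := (hnb.pow_right q).symm
    rw [hn, mul_inv_rev, inv_inv, mul_inv_cancel_left]
  have hzk1 : z ^ k ≠ 1 := fun h => by
    rw [← QuotientGroup.mk_zpow, h, QuotientGroup.mk_one] at hk
    rw [← hk, orderOf_one] at hbqo
    exact hp.out.ne_one hbqo.symm
  exact MonoidHom.mem_range.1 ((zpowers_le.2 hzk) (zpowers_eq_of_mem hzo (zpow_mem (mem_zpowers z) k) hzk1))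

/-- The groups with an abelian subgroup of index `p` given by generators and relations. -/
theorem root_of_presentation (hR : IsPGroup p R) (hp2 : p ≠ 2) (hrk : Cfsg.PRankLE p 2 R) {n : ℕ}
    (hn : Nat.card R = p ^ n) (h4 : 4 ≤ n) {x y z : R} {s ε : ℕ}
    (hgen : closure ({x, y, z} : Set R) = ⊤) (hx : x ^ p = 1) (hy : y ^ p = 1)
    (hzp : z ^ p ^ (n - 2) = 1) (hyz : y * z = z * y) (hs : ¬ p ∣ s)
    (hxy : x⁻¹ * y * x = y * z ^ (s * p ^ (n - 3))) (hxz : x⁻¹ * z * x = z * y ^ ε)
    (hcl : 5 ≤ n ∨ 3 < p ∨ ⁅_root_.commutator R, (⊤ : Subgroup R)⁆ = ⊥)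
    {c₀ : R} (hc₀ : ∀ r : R, r * c₀ = c₀ * r) (hc₀o : orderOf c₀ = p) : HasPowerRoot c₀ := by
  set w := z ^ p ^ (n - 3) with hw
  set A := closure ({y, z} : Set R) with hA
  have hyA : y ∈ A := subset_closure (Or.inl rfl)
  have hzA : z ∈ A := subset_closure (Or.inr rfl)
  haveI hAc : IsMulCommutative A := isMulCommutative_closure (by
    rintro u (rfl | rfl) v (rfl | rfl) <;> first | rfl | exact hyz | exact hyz.symm)
  have hAcomm : ∀ u ∈ A, ∀ v ∈ A, Commute u v := fun u hu v hv =>
    congrArg Subtype.val (isMulCommutative_iff.1 hAc ⟨u, hu⟩ ⟨v, hv⟩)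
  have hwp : w ^ p = 1 := by
    rw [hw, ← pow_mul, ← pow_succ, show n - 3 + 1 = n - 2 by omega, hzp]
  have hxN : x ∈ normalizer (A : Set R) := by
    have h1 : x⁻¹ ∈ normalizer (A : Set R) :=
      CfsgLib.Fusion.conjBy_eq_iff.1 (CfsgLib.Fusion.conjBy_eq_of_le (CfsgLib.Fusion.conjBy_le_iff.2
        fun u hu => by
          rw [inv_inv]
          induction hu using closure_induction with
          | mem v hv =>
            rcases hv with rfl | rfl
            · rw [hxy]; exact mul_mem hyA (pow_mem hzA _)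
            · rw [hxz]; exact mul_mem hzA (pow_mem hyA _)
          | one => simp
          | mul v v' _ _ i i' =>
            rw [show x⁻¹ * (v * v') * x = (x⁻¹ * v * x) * (x⁻¹ * v' * x) by group]
            exact mul_mem i i'
          | inv v _ i =>
            rw [show x⁻¹ * v⁻¹ * x = (x⁻¹ * v * x)⁻¹ by group]
            exact inv_mem i))
    simpa using inv_mem h1
  haveI hAn : A.Normal := normalizer_eq_top_iff.1 (top_le_iff.1 (hgen.ge.trans ((closure_le _).2 (by
    rintro u (rfl | rfl | rfl)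
    · exact hxN
    · exact le_normalizer hyA
    · exact le_normalizer hzA))))
  have hdec : ∀ g : R, ∃ i : ℤ, ∃ a ∈ A, x ^ i * a = g := fun g => by
    have h1 : g ∈ zpowers x ⊔ A := by
      have h2 : closure ({x, y, z} : Set R) ≤ zpowers x ⊔ A := (closure_le _).2 (by
        rintro u (rfl | rfl | rfl)
        exacts [mem_sup_left (mem_zpowers u), mem_sup_right hyA, mem_sup_right hzA])
      exact h2 (hgen.ge (mem_top g))
    obtain ⟨u, hu, a, ha, rfl⟩ := mem_sup_of_normal_right.1 h1
    obtain ⟨i, rfl⟩ := mem_zpowers_iff.1 hu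
    exact ⟨i, a, ha, rfl⟩
  -- the p-th powers in `A` are central
  have hpc : ∀ a ∈ A, ∀ g : R, g * a ^ p = a ^ p * g := by
    intro a ha g
    have key : ∀ a ∈ A, x⁻¹ * a ^ p * x = a ^ p := by
      intro a ha
      induction ha using closure_induction with
      | mem v hv =>
        rcases hv with rfl | rfl
        · rw [hy, mul_one, inv_mul_cancel]
        · have h1 := conj_pow (i := p) (a := x⁻¹) (b := v)
          rw [inv_inv] at h1
          rw [← h1, hxz, (hAcomm v hzA _ (pow_mem hyA ε)).mul_pow, ← pow_mul, mul_comm ε, pow_mul, hy,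
            one_pow, mul_one]
      | one => simp
      | mul v v' hv hv' i i' =>
        rw [(hAcomm v hv v' hv').mul_pow,
          show x⁻¹ * (v ^ p * v' ^ p) * x = (x⁻¹ * v ^ p * x) * (x⁻¹ * v' ^ p * x) by group, i, i']
      | inv v _ i =>
        rw [inv_pow, show x⁻¹ * (v ^ p)⁻¹ * x = (x⁻¹ * v ^ p * x)⁻¹ by group, i]
    obtain ⟨i, b, hb, rfl⟩ := hdec g
    have h1 : Commute x (a ^ p) := by
      have h2 := congrArg (x * ·) (key a ha)
      exact (by simpa [mul_assoc] using h2.symm : x * a ^ p = a ^ p * x)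
    exact ((h1.zpow_left i).mul_left (hAcomm b hb _ (pow_mem ha p))).eq
  have hwc : ∀ g : R, g * w = w * g := fun g => by
    rw [hw, show n - 3 = n - 4 + 1 by omega, pow_succ', pow_mul, ← pow_mul, mul_comm, pow_mul]
    exact hpc _ (pow_mem hzA _) g
  have hordy : ∀ {u : R}, u ^ p = 1 → u ≠ 1 → orderOf u = p := fun h h' => orderOf_eq_prime h h'
  have hw1 : w ≠ 1 := by
    intro hw1
    have hcard : ∀ {H K : Subgroup R}, H ≤ normalizer (K : Set R) →
        Nat.card ↥(H ⊔ K) ≤ Nat.card H * Nat.card K := fun {H K} hn => by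
      rw [← CfsgLib.EABasic.card_sup_mul_card_inf_of_le_normalizer hn]
      exact Nat.le_mul_of_pos_right _ Nat.card_pos
    have hA' : A ≤ zpowers y ⊔ zpowers z := (closure_le _).2 (by
      rintro u (rfl | rfl)
      exacts [mem_sup_left (mem_zpowers u), mem_sup_right (mem_zpowers u)])
    have h1 : zpowers y ≤ normalizer (zpowers z : Set R) := (zpowers_le.2 (mem_centralizer_iff.2 fun u hu => by
      obtain ⟨i, rfl⟩ := mem_zpowers_iff.1 hu
      exact ((show Commute z y from hyz.symm).zpow_left i).eq)).trans (centralizer_le_normalizer _)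
    have h2 := (card_le_of_le hA').trans (hcard h1)
    have h3 : (⊤ : Subgroup R) ≤ zpowers x ⊔ A := fun g _ => by
      obtain ⟨i, a, ha, rfl⟩ := hdec g
      exact mul_mem (mem_sup_left (zpow_mem (mem_zpowers x) i)) (mem_sup_right ha)
    have h4' := (card_le_of_le h3).trans (hcard (zpowers_le.2 hxN))
    rw [card_top, hn, Nat.card_zpowers] at h4'
    rw [Nat.card_zpowers, Nat.card_zpowers] at h2
    have h5 := Nat.le_of_dvd hp.out.pos (orderOf_dvd_of_pow_eq_one hx)
    have h6 := Nat.le_of_dvd hp.out.pos (orderOf_dvd_of_pow_eq_one hy)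
    have h7 := Nat.le_of_dvd (pow_pos hp.out.pos _) (orderOf_dvd_of_pow_eq_one (hw ▸ hw1 : z ^ p ^ (n - 3) = 1))
    have h8 := h4'.trans (Nat.mul_le_mul h5 (h2.trans (Nat.mul_le_mul h6 h7)))
    rw [← pow_succ', ← pow_succ'] at h8
    have := (Nat.pow_le_pow_iff_right hp.out.one_lt).1 h8
    omega
  have hwo := hordy hwp hw1
  have hync : ¬ ∀ g : R, g * y = y * g := fun hc => hw1 (by
    have h1 : x⁻¹ * y * x = y := by rw [mul_assoc, ← hc x, inv_mul_cancel_left]
    rw [hxy, mul_eq_left, mul_comm s, pow_mul, ← hw] at h1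
    have h2 : orderOf w ∣ s := orderOf_dvd_of_pow_eq_one h1
    exact absurd (hwo ▸ h2) hs)
  have hy1 : y ≠ 1 := fun e => hync (fun g => by rw [e, mul_one, one_mul])
  have hyw : y ∉ zpowers w := fun hm => hync fun g => by
    obtain ⟨i, rfl⟩ := mem_zpowers_iff.1 hm
    exact ((show Commute g w from hwc g).zpow_right i).eq
  -- a central element of order `p` is a power of `w`
  obtain ⟨i, j, hij⟩ := mem_pair hrk hwo hy (pow_eq_one_of_order hc₀o)
    (hwc y).symm (hwc c₀).symm (hc₀ y) hyw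
  have hj : y ^ j = 1 := by
    by_contra hj
    have h1 : ∀ g : R, Commute g (y ^ j) := fun g => by
      rw [show y ^ j = (w ^ i)⁻¹ * c₀ by rw [hij, inv_mul_cancel_left]]
      exact (((show Commute g w from hwc g).zpow_right i).inv_right).mul_right (hc₀ g)
    obtain ⟨t, ht⟩ := mem_zpowers_iff.1 (zpowers_eq_of_mem (hordy hy hy1) (zpow_mem (mem_zpowers y) j) hj)
    exact hync fun g => by rw [← ht]; exact ((h1 g).zpow_right t).eq
  -- commutators have order at most `p`
  have hder : ∀ c ∈ _root_.commutator R, c ^ p = 1 := by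
    let W : Subgroup R :=
      { carrier := {a | a ∈ A ∧ a ^ p = 1}
        one_mem' := ⟨one_mem _, one_pow _⟩
        inv_mem' := fun {a} ha => ⟨inv_mem ha.1, by rw [inv_pow, ha.2, inv_one]⟩
        mul_mem' := fun {a b} ha hb => ⟨mul_mem ha.1 hb.1, by
          rw [(hAcomm a ha.1 b hb.1).mul_pow, ha.2, hb.2, one_mul]⟩ }
    haveI : W.Normal := ⟨fun a ha g => ⟨hAn.conj_mem a ha.1 g, by
      rw [conj_pow, ha.2, mul_one, mul_inv_cancel]⟩⟩
    suffices hle : _root_.commutator R ≤ W from fun c hc => (hle hc).2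
    rw [_root_.commutator_def, commutator_le]
    intro r _ t _
    rw [← QuotientGroup.eq_one_iff, ← QuotientGroup.mk'_apply, map_commutatorElement,
      commutatorElement_eq_one_iff_commute]
    set π := QuotientGroup.mk' W
    have hπ : ∀ {u : R}, u ∈ W → π u = 1 := fun hu => (QuotientGroup.eq_one_iff _).2 hu
    have hxy' : Commute (π x) (π y) := by
      have h1 := congrArg π hxy
      rw [map_mul, map_mul, map_inv, map_mul,
        hπ (⟨pow_mem hzA _, by rw [mul_comm s, pow_mul, ← hw, ← pow_mul, mul_comm, pow_mul, hwp, one_pow]⟩ :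
          z ^ (s * p ^ (n - 3)) ∈ W), mul_one, mul_assoc, inv_mul_eq_iff_eq_mul] at h1
      exact h1.symm
    have hxz' : Commute (π x) (π z) := by
      have h1 := congrArg π hxz
      rw [map_mul, map_mul, map_inv, map_mul,
        hπ (⟨pow_mem hyA _, by rw [← pow_mul, mul_comm, pow_mul, hy, one_pow]⟩ : y ^ ε ∈ W),
        mul_one, mul_assoc, inv_mul_eq_iff_eq_mul] at h1
      exact h1.symm
    have hxa : ∀ a ∈ A, Commute (π x) (π a) := fun a ha => by
      induction ha using closure_induction with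
      | mem v hv => rcases hv with rfl | rfl
                    exacts [hxy', hxz']
      | one => rw [map_one]; exact Commute.one_right _
      | mul v v' _ _ i i' => rw [map_mul]; exact i.mul_right i'
      | inv v _ i => rw [map_inv]; exact i.inv_right
    obtain ⟨i₁, a, ha, rfl⟩ := hdec r
    obtain ⟨i₂, b, hb, rfl⟩ := hdec t
    simp only [map_mul, map_zpow]
    exact ((Commute.zpow_zpow_self _ i₁ i₂).mul_right ((hxa b hb).zpow_left i₁)).mul_left
      (((hxa a ha).zpow_left i₂).symm.mul_right ((hAcomm a ha b hb).map π))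
  refine ⟨p ^ (n - 3), ?_, fun c hc => ?_, z ^ i, ?_⟩
  · rcases Nat.lt_or_ge n 5 with hn5 | hn5
    · obtain rfl : n = 4 := by omega
      intro a b
      rw [show p ^ (4 - 3) = p from pow_one p]
      have hcl3 : ⁅⁅_root_.commutator R, (⊤ : Subgroup R)⁆, (⊤ : Subgroup R)⁆ = ⊥ := by
        haveI := hR.isNilpotent
        rw [← Subgroup.top_lowerCentralSeries_one]
        exact Subgroup.lowerCentralSeries_eq_bot_iff_nilpotencyClass_le.2
          ((CfsgLib.PGroup.nilpotencyClass_le_pred hR hn (by omega)).trans (by norm_num) :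
            Group.nilpotencyClass R ≤ 3)
      obtain ⟨c, u, v, hc, hu, hv, D⟩ := CfsgLib.PGroup.exists_classThreeData hcl3 a b
      refine D.mul_pow_prime hp.out hp2 (hder c hc) ?_
      rcases hcl with h | h | h
      · omega
      · exact Or.inl ⟨h, hder u (commutator_le.2 (fun k _ l _ => commutator_mem_commutator (mem_top k) (mem_top l)) hu),
          hder v (commutator_le.2 (fun k _ l _ => commutator_mem_commutator (mem_top k) (mem_top l)) hv)⟩
      · rw [h, mem_bot] at hu hv
        exact Or.inr ⟨hu, hv⟩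
    · -- powers of `p²` see only the part in `A`
      have hsq : ∀ i : ℤ, ∀ a ∈ A, (x ^ i * a) ^ p ^ (n - 3) = a ^ p ^ (n - 3) := by
        intro i a ha
        have hk : ∀ k : ℕ, ∃ c ∈ A, c ^ p = a ^ (p * k) ∧ (x ^ i * a) ^ k = (x ^ i) ^ k * c := by
          intro k
          induction k with
          | zero => exact ⟨1, one_mem _, by simp, by simp⟩
          | succ k ih =>
            obtain ⟨c, hc, hcp, hce⟩ := ih
            have hc' : (x ^ i)⁻¹ * c * x ^ i ∈ A := by
              have := hAn.conj_mem c hc (x ^ i)⁻¹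
              rwa [inv_inv] at this
            refine ⟨(x ^ i)⁻¹ * c * x ^ i * a, mul_mem hc' ha, ?_, ?_⟩
            · rw [(hAcomm _ hc' a ha).mul_pow]
              have h1 := conj_pow (i := p) (a := (x ^ i)⁻¹) (b := c)
              rw [inv_inv] at h1
              rw [h1, show (x ^ i)⁻¹ * c ^ p * x ^ i = c ^ p by
                rw [mul_assoc, ← hpc c hc (x ^ i), inv_mul_cancel_left], hcp, Nat.mul_succ, pow_add]
            · rw [pow_succ, hce, pow_succ]; group
        obtain ⟨c, -, hcp, hce⟩ := hk p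
        rw [show (x ^ i) ^ p = 1 by rw [← zpow_natCast, ← zpow_mul, mul_comm, zpow_mul, zpow_natCast, hx,
          one_zpow], one_mul] at hce
        rw [show n - 3 = n - 5 + 1 + 1 by omega, pow_succ' p, pow_succ' p, pow_mul, hce, pow_mul, hcp,
          ← pow_mul, mul_assoc]
      intro g g'
      obtain ⟨i₁, a, ha, rfl⟩ := hdec g
      obtain ⟨i₂, b, hb, rfl⟩ := hdec g'
      have ha' : (x ^ i₂)⁻¹ * a * x ^ i₂ ∈ A := by
        have := hAn.conj_mem a ha (x ^ i₂)⁻¹
        rwa [inv_inv] at this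
      rw [show x ^ i₁ * a * (x ^ i₂ * b) = x ^ (i₁ + i₂) * ((x ^ i₂)⁻¹ * a * x ^ i₂ * b) by
        rw [zpow_add]; group, hsq _ _ (mul_mem ha' hb), hsq _ a ha, hsq _ b hb,
        (hAcomm _ ha' b hb).mul_pow]
      congr 1
      have h1 := conj_pow (i := p ^ (n - 3)) (a := (x ^ i₂)⁻¹) (b := a)
      rw [inv_inv] at h1
      rw [h1, mul_assoc, show n - 3 = n - 4 + 1 by omega, pow_succ, pow_mul,
        ← hpc _ (pow_mem ha _) (x ^ i₂), inv_mul_cancel_left]
  · rw [show n - 3 = n - 4 + 1 by omega, pow_succ', pow_mul, hder c hc, one_pow]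
  · rw [hij, hj, mul_one, hw, ← zpow_natCast, ← zpow_natCast, ← zpow_mul, ← zpow_mul, mul_comm]

end CfsgLib.IsoRankTwo
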