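import Cfsg.Agent.Lib.IsolatedRankTwo.OmegaFusion
import Cfsg.Agent.Lib.Coprime.Component
import Cfsg.Agent.Lib.Coprime.Fitting
import Cfsg.Agent.Lib.Coprime.Core
import Cfsg.Agent.Lib.Coprime.Solvable
import Cfsg.Agent.Lib.Fusion.Sylow
import Cfsg.Agent.Lib.PGroup.Isolated
import Cfsg.Agent.Lib.PGroup.NormalRankTwo
import Cfsg.Prelude.Def_CaseTheorems
import Cfsg.Prelude.Def_Local

/-!
# The component of a group of rank two with a noncentral isolated element

With a trivial `p'`-core, `p`-rank two and a noncentral isolated element of order `p`, there is no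
normal `p`-subgroup and exactly one component, which is simple; its Sylow subgroups are cyclic or
contain a conjugate of the element.
-/

set_option autoImplicit false
set_option linter.style.haveILetI false
set_option linter.unusedSectionVars false

open Subgroup

namespace CfsgLib.IsoRankTwo

universe u

variable {G : Type u} [Group G] [Finite G] {p : ℕ} [hp : Fact p.Prime]

theorem exists_prime_elem {H : Subgroup G} (hH : IsPGroup p H) (hne : H ≠ ⊥) :
    ∃ a ∈ H, orderOf a = p := by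
  obtain ⟨k, hk⟩ := hH.exists_card_eq
  rcases Nat.eq_zero_or_pos k with rfl | hk0
  · exact absurd (eq_bot_of_card_eq H (hk.trans (pow_zero p))) hne
  obtain ⟨a, ha⟩ := exists_prime_orderOf_dvd_card' (G := H) p (hk ▸ dvd_pow_self p hk0.ne')
  exact ⟨a, a.2, by rw [← ha, Subgroup.orderOf_coe]⟩

theorem exists_central_elem {H : Subgroup G} (hH : IsPGroup p H) (hne : H ≠ ⊥) :
    ∃ a ∈ H, orderOf a = p ∧ ∀ b ∈ H, a * b = b * a := by
  haveI : Nontrivial H := (nontrivial_iff_ne_bot H).2 hne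
  haveI := hH.center_nontrivial
  obtain ⟨a, ha, ho⟩ := exists_prime_elem (hH.to_le (map_subtype_le (center H)))
    (fun e => (nontrivial_iff_ne_bot (center H)).1 inferInstance
      ((map_eq_bot_iff_of_injective _ H.subtype_injective).1 e))
  obtain ⟨a', ha', rfl⟩ := ha
  exact ⟨a', a'.2, ho, fun b hb => (congrArg Subtype.val (mem_center_iff.1 ha' ⟨b, hb⟩)).symm⟩

theorem pow_eq_one_of_order {a : G} (h : orderOf a = p) : a ^ p = 1 := by
  rw [← h, pow_orderOf_eq_one]

theorem zpowers_eq_of_mem {a b : G} (ha : orderOf a = p) (hb : b ∈ zpowers a) (hb1 : b ≠ 1) :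
    a ∈ zpowers b := by
  have hbp : orderOf b = p := orderOf_eq_prime (by
    obtain ⟨i, rfl⟩ := mem_zpowers_iff.1 hb
    rw [← zpow_natCast, ← zpow_mul, mul_comm, zpow_mul, zpow_natCast, pow_eq_one_of_order ha, one_zpow]) hb1
  exact (eq_of_le_of_card_ge (zpowers_le.2 hb) (by rw [Nat.card_zpowers, Nat.card_zpowers, ha, hbp])).ge
    (mem_zpowers a)

/-- In rank two, an element of order `p` commuting with a four-group of type `(p, p)` lies in it. -/
theorem mem_pair (hrk : Cfsg.PRankLE p 2 G) {a b t : G} (ha : orderOf a = p) (hb : b ^ p = 1)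
    (ht : t ^ p = 1) (hab : Commute a b) (hat : Commute a t) (hbt : Commute b t)
    (hba : b ∉ zpowers a) : ∃ i j : ℤ, t = a ^ i * b ^ j := by
  set A := closure ({a, b, t} : Set G)
  have hgen : ∀ u ∈ ({a, b, t} : Set G), ∀ v ∈ ({a, b, t} : Set G), u * v = v * u := by
    rintro u (rfl | rfl | rfl) v (rfl | rfl | rfl) <;>
      first | rfl | exact hab.eq | exact hab.eq.symm | exact hat.eq | exact hat.eq.symm | exact hbt.eq |
        exact hbt.eq.symm
  haveI hAc : IsMulCommutative A := isMulCommutative_closure hgen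
  have hAe : ∀ z ∈ A, z ^ p = 1 := by
    intro z hz
    induction hz using closure_induction with
    | mem u hu => rcases hu with rfl | rfl | rfl
                  exacts [pow_eq_one_of_order ha, hb, ht]
    | one => exact one_pow p
    | mul u v hu hv iu iv =>
      have huv : Commute u v := congrArg Subtype.val (isMulCommutative_iff.1 hAc ⟨u, hu⟩ ⟨v, hv⟩)
      rw [huv.mul_pow, iu, iv, one_mul]
    | inv u hu iu => rw [inv_pow, iu, inv_one]
  have hn : zpowers b ≤ normalizer (zpowers a : Set G) := (zpowers_le.2 (mem_centralizer_iff.2 fun u hu => by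
    obtain ⟨i, rfl⟩ := mem_zpowers_iff.1 hu
    exact (hab.zpow_left i).eq)).trans (centralizer_le_normalizer _)
  have hle : zpowers a ⊔ zpowers b ≤ A :=
    sup_le (zpowers_le.2 (subset_closure (by simp))) (zpowers_le.2 (subset_closure (by simp)))
  have hpA : IsPGroup p A := fun z => ⟨1, Subtype.ext (by simpa using hAe z z.2)⟩
  have hcard : p ^ 2 ≤ Nat.card ↥(zpowers a ⊔ zpowers b) := by
    have hlt : zpowers a < zpowers a ⊔ zpowers b :=
      lt_of_le_of_ne le_sup_left fun e => hba (e.ge (mem_sup_right (mem_zpowers b)))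
    obtain ⟨k, hk⟩ := (hpA.to_le hle).exists_card_eq
    rw [hk]
    refine Nat.pow_le_pow_right hp.out.pos ?_
    by_contra hc
    refine hlt.ne (eq_of_le_of_card_ge hlt.le ?_)
    rw [hk, Nat.card_zpowers, ha]
    exact (Nat.pow_le_pow_right hp.out.pos (show k ≤ 1 by omega)).trans (pow_one p).le
  have heq := eq_of_le_of_card_ge hle ((hrk A hAc hAe).trans hcard)
  obtain ⟨u, hu, v, hv, rfl⟩ :=
    Coprime.mem_sup_exists hn (heq.ge (subset_closure (show t ∈ ({a, b, t} : Set G) by simp)))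
  obtain ⟨i, rfl⟩ := mem_zpowers_iff.1 hu
  obtain ⟨j, rfl⟩ := mem_zpowers_iff.1 hv
  exact ⟨i, j, rfl⟩

/-- The hypotheses: trivial `p'`-core, rank two, a noncentral isolated element of order `p`. -/
structure Ctx (p : ℕ) (x : G) : Prop where
  odd : p ≠ 2
  core : Cfsg.pPrimeCore p G = ⊥
  rank : Cfsg.PRankLE p 2 G
  ord : orderOf x = p
  iso : Cfsg.IsIsolated x
  nc : x ∉ center G

theorem isIsolated_conj {x : G} (hiso : Cfsg.IsIsolated x) (g : G) :
    Cfsg.IsIsolated (g * x * g⁻¹) := by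
  intro k hk
  have h1 : g⁻¹ * k * g * x * (g⁻¹ * k * g)⁻¹ = x := hiso _ (by
    have := hk.map (MulAut.conj g⁻¹).toMonoidHom
    simpa [MulAut.conj_apply, mul_assoc] using this)
  calc k * (g * x * g⁻¹) * k⁻¹ = g * (g⁻¹ * k * g * x * (g⁻¹ * k * g)⁻¹) * g⁻¹ := by group
    _ = g * x * g⁻¹ := by rw [h1]

namespace Ctx

variable {x : G} (h : Ctx p x)
include h

theorem conj (g : G) : Ctx p (g * x * g⁻¹) :=
  ⟨h.odd, h.core, h.rank, by rw [← MulAut.conj_apply, MulEquiv.orderOf_eq, h.ord], isIsolated_conj h.iso g,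
    fun hc => h.nc (by
      have := (inferInstance : (center G).Normal).conj_mem _ hc g⁻¹
      simpa [mul_assoc] using this)⟩

theorem x_ne_one : x ≠ 1 := fun e => hp.out.ne_one (by rw [← h.ord, e, orderOf_one])

theorem exists_sylow : ∃ T : Sylow p G, x ∈ (T : Subgroup G) := by
  obtain ⟨T, hT⟩ := (IsPGroup.of_card (n := 1) (show Nat.card (zpowers x) = p ^ 1 by
    rw [Nat.card_zpowers, h.ord, pow_one])).exists_le_sylow
  exact ⟨T, hT (mem_zpowers x)⟩

theorem exists_conj_mem (T : Sylow p G) : ∃ g : G, g * x * g⁻¹ ∈ (T : Subgroup G) := by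
  obtain ⟨S, hS⟩ := h.exists_sylow
  obtain ⟨g, hg⟩ := MulAction.exists_smul_eq G S T
  exact ⟨g, hg ▸ CfsgLib.Fusion.conj_mem_conjBy hS⟩

theorem commute_mem {T : Subgroup G} (hT : IsPGroup p T) (hxT : x ∈ T) {t : G} (ht : t ∈ T) :
    Commute x t :=
  (mem_centralizer_singleton_iff.1 (Isolated.le_centralizer h.iso hT hxT ht)).symm

/-- An element keeping a product `a` of `x ^ j` and something fixed in a `p`-group fixes it. -/
theorem fix_mul {T : Subgroup G} (hT : IsPGroup p T) (hxT : x ∈ T) {z e : G} {j : ℤ}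
    (hz : z ∈ T) (hez : e * z * e⁻¹ = z) (hmem : e * (z * x ^ j) * e⁻¹ ∈ T) :
    e * (z * x ^ j) * e⁻¹ = z * x ^ j := by
  have e1 : e * (z * x ^ j) * e⁻¹ = z * (e * x ^ j * e⁻¹) := by
    rw [show e * (z * x ^ j) * e⁻¹ = e * z * e⁻¹ * (e * x ^ j * e⁻¹) by group, hez]
  rw [e1] at hmem ⊢
  have h2 : e * x ^ j * e⁻¹ ∈ T := (mul_mem_cancel_left hz).1 hmem
  by_cases hj : x ^ j = 1
  · rw [hj, mul_one, mul_inv_cancel]
  obtain ⟨k, hk⟩ := mem_zpowers_iff.1 (zpowers_eq_of_mem h.ord (zpow_mem (mem_zpowers x) j) hj)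
  have h3 : e * x * e⁻¹ = x := Isolated.conj_eq h.iso hT hxT (by
    rw [← hk, ← conj_zpow]
    exact zpow_mem h2 k)
  rw [← conj_zpow, h3]

theorem pCore_any {q : ℕ} [Fact q.Prime] (hq : q ≠ p) : Cfsg.pCore q G = ⊥ := by
  haveI := Coprime.pCore_normal' (G := G) q
  rw [← le_bot_iff, ← h.core]
  obtain ⟨k, hk⟩ := (Coprime.pCore_isPGroup (G := G) q).exists_card_eq
  refine Coprime.le_pPrimeCore ?_
  rw [hk]
  exact Nat.Coprime.pow_left k ((Nat.coprime_primes Fact.out hp.out).2 hq)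

theorem fitting_eq : Cfsg.fittingSubgroup G = Cfsg.pCore p G := by
  rw [Coprime.fitting_eq_iSup_pCore]
  refine le_antisymm (iSup_le fun q => ?_)
    (le_iSup (fun q : Nat.Primes => Cfsg.pCore (q : ℕ) G) ⟨p, hp.out⟩)
  by_cases hq : (q : ℕ) = p
  · rw [hq]
  · haveI : Fact (q : ℕ).Prime := ⟨q.2⟩
    rw [h.pCore_any hq]
    exact bot_le

theorem notMem_pCore : x ∉ Cfsg.pCore p G := by
  haveI := Coprime.pCore_normal' (G := G) p
  intro hx
  refine h.nc (mem_center_iff.2 fun g => ?_)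
  have h1 : g * x * g⁻¹ = x := Isolated.conj_eq h.iso (Coprime.pCore_isPGroup (G := G) p) hx
    ((inferInstance : (Cfsg.pCore p G).Normal).conj_mem x hx g)
  exact mul_inv_eq_iff_eq_mul.1 h1

theorem exists_component : ∃ L : Subgroup G, Cfsg.IsComponent L := by
  by_contra hcon
  push Not at hcon
  have hlay : Cfsg.layer G = ⊥ := le_bot_iff.1 (sSup_le fun M hM => absurd hM (hcon M))
  obtain ⟨T, hxT⟩ := h.exists_sylow
  refine h.notMem_pCore (h.fitting_eq.le (Coprime.centralizer_fitting_le_of_layer_eq_bot hlay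
    (mem_centralizer_iff.2 fun u hu => ?_)))
  rw [SetLike.mem_coe, h.fitting_eq] at hu
  exact (h.commute_mem T.2 hxT (PGroup.pCore_le_sylow T hu)).eq.symm

theorem pCore_eq_bot : Cfsg.pCore p G = ⊥ := by
  by_contra hne
  haveI := Coprime.pCore_normal' (G := G) p
  obtain ⟨L, hL⟩ := h.exists_component
  obtain ⟨T, hxT⟩ := h.exists_sylow
  set Q := Cfsg.pCore p G
  have hQT : Q ≤ (T : Subgroup G) := PGroup.pCore_le_sylow T
  haveI := T.2.isNilpotent
  have hi := Coprime.nilpotent_inf_center_ne_bot (G := ↥(T : Subgroup G)) (Q.subgroupOf T) (fun e => hne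
    (le_bot_iff.1 ((le_inf le_rfl hQT).trans (disjoint_iff_inf_le.1 (subgroupOf_eq_bot.1 e)))))
  obtain ⟨z, ⟨z', hz', rfl⟩, hzo⟩ := exists_prime_elem
    (H := (Q.subgroupOf T ⊓ center ↥(T : Subgroup G)).map (T : Subgroup G).subtype)
    (T.2.to_le (map_subtype_le _)) (fun e => hi ((map_eq_bot_iff_of_injective _ (T : Subgroup G).subtype_injective).1 e))
  set z : G := (z' : G)
  have hzQ : z ∈ Q := mem_subgroupOf.1 hz'.1
  have hzT : ∀ t ∈ (T : Subgroup G), Commute z t := fun t ht =>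
    (congrArg Subtype.val (mem_center_iff.1 hz'.2 ⟨t, ht⟩)).symm
  have hxz : x ∉ zpowers z := fun hc => h.notMem_pCore ((zpowers_le.2 hzQ) hc)
  haveI := Coprime.layer_normal (G := G)
  have hzE : ∀ e ∈ Cfsg.layer G, e * z * e⁻¹ = z := fun e he => by
    have h1 := commutatorElement_eq_one_iff_mul_comm.1 ((eq_bot_iff_forall _).1
      (Coprime.layer_commutator_fitting_eq_bot (G := G)) _
      (commutator_mem_commutator he (h.fitting_eq.ge hzQ)))
    rw [h1, mul_inv_cancel_right]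
  have hR : (T : Subgroup G) ⊓ Cfsg.layer G = ⊥ := sylow_eq_bot_of_omega h.odd
    (Coprime.layer_isPerfect (G := G)) inf_le_right (T.2.to_le inf_le_left)
    (CfsgLib.Fusion.not_dvd_relIndex_inf_of_normal T _) fun S hS e he hen a ha hap => by
      have haT : a ∈ (T : Subgroup G) := (mem_inf.1 (hS ha)).1
      obtain ⟨i, j, rfl⟩ := mem_pair h.rank hzo (pow_eq_one_of_order h.ord) hap
        (hzT x hxT) (hzT a haT) (h.commute_mem T.2 hxT haT) hxz
      refine h.fix_mul T.2 hxT (zpow_mem z'.2 i) ?_ (mem_inf.1 (hS ((mem_normalizer_iff.1 hen _).1 ha))).1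
      rw [← conj_zpow]
      exact congrArg (· ^ i) (hzE e he)
  have hcop : (Nat.card (Cfsg.layer G)).Coprime p := by
    have hd := CfsgLib.Fusion.not_dvd_relIndex_inf_of_normal T (Cfsg.layer G)
    rw [hR, relIndex_bot_left] at hd
    exact (hp.out.coprime_iff_not_dvd.2 hd).symm
  have hbot := le_bot_iff.1 (h.core ▸ Coprime.le_pPrimeCore hcop)
  have hLbot : L = ⊥ := le_bot_iff.1 (hbot ▸ Coprime.component_le_layer hL)
  exact Coprime.not_isSolvable_of_isComponent hL (by subst hLbot; infer_instance)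

theorem fitting_eq_bot : Cfsg.fittingSubgroup G = ⊥ := h.fitting_eq.trans h.pCore_eq_bot

theorem center_component {L : Subgroup G} (hL : Cfsg.IsComponent L) : center L = ⊥ := by
  apply Subgroup.map_injective L.subtype_injective
  rw [Subgroup.map_bot, ← le_bot_iff, ← h.fitting_eq_bot]
  refine Coprime.le_fitting_of_isSubnormal ((inferInstance : (center L).Normal).isSubnormal.trans' hL.1) ?_
  have hab : ∀ u v : ↥((center L).map L.subtype), u * v = v * u := fun u v => by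
    obtain ⟨_, u, hu, rfl⟩ := u
    obtain ⟨_, v, hv, rfl⟩ := v
    exact Subtype.ext (congrArg Subtype.val (mem_center_iff.1 hv u) :)
  letI : CommGroup ↥((center L).map L.subtype) :=
    { (inferInstance : Group ↥((center L).map L.subtype)) with mul_comm := hab }
  exact CommGroup.isNilpotent

theorem dvd_card_component {L : Subgroup G} (hL : Cfsg.IsComponent L) : p ∣ Nat.card L := by
  by_contra hd
  have hb := le_bot_iff.1 (h.core ▸ Coprime.le_pPrimeCore_of_isSubnormal hp.out hL.1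
    (hp.out.coprime_iff_not_dvd.2 hd).symm)
  refine Coprime.not_isSolvable_of_isComponent hL ?_
  subst hb
  infer_instance

end Ctx

/-- Of two commuting components, the first cannot carry part of the isolated element. -/
theorem component_pair {x : G} (h : Ctx p x) {L₁ R₁ : Subgroup G} (hL : ⁅L₁, L₁⁆ = L₁) (hR : IsPGroup p R₁)
    (hRL : R₁ ≤ L₁) (hRi : ¬ p ∣ R₁.relIndex L₁) {T : Subgroup G} (hT : IsPGroup p T) (hxT : x ∈ T)
    (hRT : R₁ ≤ T) {a₁ a₂ : G} (ha : a₁ ∈ R₁) (hao : orderOf a₁ = p) (ha2 : a₂ ∈ T)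
    (hroot : ∀ t ∈ R₁, t ^ p = 1 → t ∈ zpowers a₁) (hcomm : ∀ e ∈ L₁, e * a₂ * e⁻¹ = a₂) {i j : ℤ}
    (hx : x = a₁ ^ i * a₂ ^ j) : a₁ ^ i = 1 := by
  by_contra hi
  have hne : R₁ ≠ ⊥ := fun e => by
    rw [e, mem_bot] at ha
    exact hp.out.ne_one (by rw [← hao, ha, orderOf_one])
  refine hne (sylow_eq_bot_of_omega h.odd hL hRL hR hRi fun S hS e he hen a haS hap => ?_)
  obtain ⟨k, hk⟩ := mem_zpowers_iff.1 (zpowers_eq_of_mem hao (zpow_mem (mem_zpowers a₁) i) hi)
  obtain ⟨m, rfl⟩ := mem_zpowers_iff.1 (hroot a (hS haS) hap)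
  by_cases hm : a₁ ^ m = 1
  · rw [hm, mul_one, mul_inv_cancel]
  obtain ⟨n, hn⟩ := mem_zpowers_iff.1 (zpowers_eq_of_mem hao (zpow_mem (mem_zpowers a₁) m) hm)
  have h1 : e * a₁ * e⁻¹ ∈ T := by
    rw [← hn, ← conj_zpow]
    exact zpow_mem (hRT (hS ((mem_normalizer_iff.1 hen _).1 haS))) n
  have h2 : e * x * e⁻¹ = x := Isolated.conj_eq h.iso hT hxT (by
    rw [hx, show e * (a₁ ^ i * a₂ ^ j) * e⁻¹ = (e * a₁ ^ i * e⁻¹) * (e * a₂ ^ j * e⁻¹) by group,
      ← conj_zpow, ← conj_zpow, hcomm e he]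
    exact mul_mem (zpow_mem h1 i) (zpow_mem ha2 j))
  rw [hx, show e * (a₁ ^ i * a₂ ^ j) * e⁻¹ = (e * a₁ ^ i * e⁻¹) * (e * a₂ ^ j * e⁻¹) by group,
    ← conj_zpow (i := j), hcomm e he, mul_left_inj] at h2
  have h3 : e * a₁ * e⁻¹ = a₁ := by
    conv_lhs => rw [← hk, ← conj_zpow, h2, hk]
  rw [← conj_zpow, h3]

namespace Ctx

/-- There is only one component. -/
theorem component_eq {x : G} (h : Ctx p x) {L₁ L₂ : Subgroup G} (h1 : Cfsg.IsComponent L₁)
    (h2 : Cfsg.IsComponent L₂) : L₁ = L₂ := by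
  by_contra hne
  have hc : ∀ e ∈ L₁, ∀ f ∈ L₂, e * f = f * e := fun e he f hf => commutatorElement_eq_one_iff_mul_comm.1
    ((eq_bot_iff_forall _).1 (Coprime.components_commute h1 h2 hne) _ (commutator_mem_commutator he hf))
  obtain ⟨R₁, -, hR₁L, hR₁p, hR₁i⟩ := CfsgLib.Fusion.exists_le_not_dvd_relIndex (p := p)
    (IsPGroup.of_bot (G := G) (p := p)) (bot_le (a := L₁))
  obtain ⟨R₂, -, hR₂L, hR₂p, hR₂i⟩ := CfsgLib.Fusion.exists_le_not_dvd_relIndex (p := p)
    (IsPGroup.of_bot (G := G) (p := p)) (bot_le (a := L₂))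
  have hne₁ : R₁ ≠ ⊥ := fun e => hR₁i (by rw [e, relIndex_bot_left]; exact h.dvd_card_component h1)
  have hne₂ : R₂ ≠ ⊥ := fun e => hR₂i (by rw [e, relIndex_bot_left]; exact h.dvd_card_component h2)
  have hn : R₁ ≤ normalizer (R₂ : Set G) := fun a ha => centralizer_le_normalizer _
    (mem_centralizer_iff.2 fun b hb => (hc a (hR₁L ha) b (hR₂L hb)).symm)
  obtain ⟨T, hT⟩ := (hR₁p.to_sup_of_normal_right' hR₂p hn).exists_le_sylow
  obtain ⟨g, hg⟩ := h.exists_conj_mem T
  have h' := h.conj g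
  obtain ⟨a₁, ha₁, hao₁, hac₁⟩ := exists_central_elem hR₁p hne₁
  obtain ⟨a₂, ha₂, hao₂, hac₂⟩ := exists_central_elem hR₂p hne₂
  have hT₁ : R₁ ≤ (T : Subgroup G) := le_sup_left.trans hT
  have hT₂ : R₂ ≤ (T : Subgroup G) := le_sup_right.trans hT
  have h12 : Commute a₁ a₂ := hc a₁ (hR₁L ha₁) a₂ (hR₂L ha₂)
  have hdis : ∀ c ∈ L₁, c ∈ L₂ → c = 1 := fun c c1 c2 => by
    have : (⟨c, c1⟩ : L₁) ∈ center L₁ :=
      mem_center_iff.2 fun u => Subtype.ext (hc u u.2 c c2)
    rw [h.center_component h1, mem_bot] at this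
    exact congrArg Subtype.val this
  have h21 : a₂ ∉ zpowers a₁ := fun hm => hp.out.ne_one (by
    rw [← hao₂, hdis a₂ ((zpowers_le.2 (hR₁L ha₁)) hm) (hR₂L ha₂), orderOf_one])
  have h21' : a₁ ∉ zpowers a₂ := fun hm => hp.out.ne_one (by
    rw [← hao₁, hdis a₁ (hR₁L ha₁) ((zpowers_le.2 (hR₂L ha₂)) hm), orderOf_one])
  obtain ⟨i, j, hij⟩ := mem_pair h.rank hao₁ (pow_eq_one_of_order hao₂) (pow_eq_one_of_order h'.ord) h12
    (h'.commute_mem T.2 hg (hT₁ ha₁)).symm (h'.commute_mem T.2 hg (hT₂ ha₂)).symm h21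
  have hr₁ : ∀ t ∈ R₁, t ^ p = 1 → t ∈ zpowers a₁ := fun t ht htp => by
    obtain ⟨k, l, hkl⟩ := mem_pair h.rank hao₁ (pow_eq_one_of_order hao₂) htp h12
      (hac₁ t ht) (hc t (hR₁L ht) a₂ (hR₂L ha₂)).symm h21
    have hl : a₂ ^ l = 1 := hdis _ (by
      rw [show a₂ ^ l = (a₁ ^ k)⁻¹ * t by rw [hkl, inv_mul_cancel_left]]
      exact mul_mem (inv_mem (zpow_mem (hR₁L ha₁) k)) (hR₁L ht)) (zpow_mem (hR₂L ha₂) l)
    exact ⟨k, by rw [hkl, hl, mul_one]⟩
  have hr₂ : ∀ t ∈ R₂, t ^ p = 1 → t ∈ zpowers a₂ := fun t ht htp => by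
    obtain ⟨k, l, hkl⟩ := mem_pair h.rank hao₂ (pow_eq_one_of_order hao₁) htp h12.symm
      (hac₂ t ht) (hc a₁ (hR₁L ha₁) t (hR₂L ht)) h21'
    have hl : a₁ ^ l = 1 := hdis _ (zpow_mem (hR₁L ha₁) l) (by
      rw [show a₁ ^ l = (a₂ ^ k)⁻¹ * t by rw [hkl, inv_mul_cancel_left]]
      exact mul_mem (inv_mem (zpow_mem (hR₂L ha₂) k)) (hR₂L ht))
    exact ⟨k, by rw [hkl, hl, mul_one]⟩
  have e1 := component_pair h' (Coprime.commutator_self_of_isComponent h1) hR₁p hR₁L hR₁i T.2 hg hT₁ ha₁ hao₁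
    (hT₂ ha₂) hr₁ (fun e he => by rw [hc e he a₂ (hR₂L ha₂), mul_inv_cancel_right]) hij
  have hij' : g * x * g⁻¹ = a₂ ^ j * a₁ ^ i := hij.trans ((h12.zpow_zpow i j).eq)
  have e2 := component_pair h' (Coprime.commutator_self_of_isComponent h2) hR₂p hR₂L hR₂i T.2 hg hT₂ ha₂ hao₂
    (hT₁ ha₁) hr₂ (fun e he => by rw [← hc a₁ (hR₁L ha₁) e he, mul_inv_cancel_right]) hij'
  exact h'.x_ne_one (by rw [hij, e1, e2, one_mul])

theorem generalizedFitting_eq {x : G} (h : Ctx p x) :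
    ∃ L : Subgroup G, Cfsg.generalizedFittingSubgroup G = L ∧ L.Normal ∧ ⁅L, L⁆ = L ∧ IsSimpleGroup L ∧
      ¬ IsMulCommutative L := by
  obtain ⟨L, hL⟩ := h.exists_component
  have hlay : Cfsg.layer G = L :=
    le_antisymm (sSup_le fun M hM => (h.component_eq hM hL).le) (Coprime.component_le_layer hL)
  refine ⟨L, ?_, hlay ▸ Coprime.layer_normal, Coprime.commutator_self_of_isComponent hL, ?_, fun hc =>
    Coprime.not_isSolvable_of_isComponent hL (Coprime.isSolvable_of_isMulCommutative hc)⟩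
  · rw [Cfsg.generalizedFittingSubgroup, hlay, h.fitting_eq_bot, sup_bot_eq]
  · haveI := hL.2.2
    exact ((QuotientGroup.quotientMulEquivOfEq (h.center_component hL)).trans
      QuotientGroup.quotientBot).symm.isSimpleGroup

/-- A Sylow subgroup of a normal subgroup is cyclic or contains a conjugate of the element. -/
theorem cyclic_or_conj {x : G} (h : Ctx p x) {L P : Subgroup G} [L.Normal] (hP : IsPGroup p P) (hPL : P ≤ L)
    (hPi : ¬ p ∣ P.relIndex L) : IsCyclic P ∨ ∃ g : G, g * x * g⁻¹ ∈ P := by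
  by_contra hcon
  push Not at hcon
  obtain ⟨hnc, hno⟩ := hcon
  obtain ⟨T, hT⟩ := hP.exists_le_sylow
  obtain ⟨g, hg⟩ := h.exists_conj_mem T
  have h' := h.conj g
  have hPT : (T : Subgroup G) ⊓ L = P := by
    refine (eq_of_le_of_card_ge (le_inf hT hPL) ?_).symm
    obtain ⟨a, ha⟩ := hP.exists_card_eq
    obtain ⟨b, hb⟩ := (T.2.to_le (inf_le_left : (T : Subgroup G) ⊓ L ≤ T)).exists_card_eq
    rw [ha, hb]
    refine Nat.pow_le_pow_right hp.out.pos ?_
    by_contra hlt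
    refine hPi (dvd_trans ?_ (relIndex_mul_relIndex P ((T : Subgroup G) ⊓ L) L (le_inf hT hPL) inf_le_right ▸
      dvd_mul_right _ _))
    have e := relIndex_mul_relIndex (⊥ : Subgroup G) P ((T : Subgroup G) ⊓ L) bot_le (le_inf hT hPL)
    rw [relIndex_bot_left, relIndex_bot_left, ha, hb, show b = a + (b - a) by omega, pow_add] at e
    rw [Nat.eq_of_mul_eq_mul_left (pow_pos hp.out.pos a) e]
    exact dvd_pow_self p (by omega)
  have hxL : g * x * g⁻¹ ∉ L := fun hc => hno g (hPT ▸ mem_inf.2 ⟨hg, hc⟩)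
  obtain ⟨E, -, -, hE, hEc⟩ := PGroup.exists_normal_rank_two hP h.odd (⊤ : Subgroup ↥P)
    (fun hc => hnc (Subgroup.topEquiv.isCyclic.1 hc))
  haveI := hE.1
  set A := closure ((E.map P.subtype : Set G) ∪ {g * x * g⁻¹})
  have hEmem : ∀ u ∈ E.map P.subtype, u ∈ P := fun u hu => map_subtype_le E hu
  have hcm : ∀ u ∈ E.map P.subtype, ∀ v ∈ E.map P.subtype, u * v = v * u := fun u hu v hv =>
    congrArg Subtype.val (mul_comm' (⟨u, hu⟩ : ↥(E.map P.subtype)) ⟨v, hv⟩)
  have hgen : ∀ u ∈ (E.map P.subtype : Set G) ∪ {g * x * g⁻¹}, ∀ v ∈ (E.map P.subtype : Set G) ∪ {g * x * g⁻¹},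
      u * v = v * u := by
    rintro u (hu | rfl) v (hv | rfl)
    · exact hcm u hu v hv
    · exact (h'.commute_mem T.2 hg (hT (hEmem u hu))).eq.symm
    · exact (h'.commute_mem T.2 hg (hT (hEmem v hv))).eq
    · rfl
  haveI hAc : IsMulCommutative A := isMulCommutative_closure hgen
  have hAe : ∀ z ∈ A, z ^ p = 1 := by
    intro z hz
    induction hz using closure_induction with
    | mem u hu => rcases hu with ⟨u', hu', rfl⟩ | rfl
                  · rw [← map_pow, hE.2 u' hu', map_one]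
                  · exact pow_eq_one_of_order h'.ord
    | one => exact one_pow p
    | mul u v hu hv iu iv =>
      have huv : Commute u v := congrArg Subtype.val (isMulCommutative_iff.1 hAc ⟨u, hu⟩ ⟨v, hv⟩)
      rw [huv.mul_pow, iu, iv, one_mul]
    | inv u hu iu => rw [inv_pow, iu, inv_one]
  have hle : E.map P.subtype ≤ A := fun u hu => subset_closure (Or.inl hu)
  have heq := eq_of_le_of_card_ge hle (by
    rw [card_map_of_injective P.subtype_injective, hEc]; exact h.rank A hAc hAe)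
  exact hxL (hPL (hEmem _ (heq.ge (subset_closure (Or.inr rfl)))))

end Ctx

end CfsgLib.IsoRankTwo
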