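import Cfsg.Agent.Lib.Coprime.Action
import Cfsg.Agent.Lib.Fusion.AlperinGoldschmidt

/-!
# Normalizers stabilizing a series with steps of prime index

If `H ≤ N(E)` stabilizes a series of `E` whose steps have index at most `p`, its `p`-elements act
through a normal `p`-subgroup: a good subgroup is then the whole normalizer in `P`, and elements of `N(E)`
move a Sylow `p`-subgroup of `N(E)` into itself up to `C(E)`.
-/

set_option autoImplicit false
set_option linter.style.haveILetI false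
set_option linter.unusedSectionVars false

open Subgroup
open scoped Pointwise

namespace CfsgLib.IsoRankTwo

universe u

variable {G : Type u} [Group G] [Finite G] {p : ℕ} [hp : Fact p.Prime]

/-- A series of `E` invariant under `H` with steps of index at most `p`. -/
structure Series (p : ℕ) (H E : Subgroup G) where
  len : ℕ
  D : ℕ → Subgroup G
  top : D 0 = E
  bot : D len = ⊥
  anti : ∀ i, D (i + 1) ≤ D i
  inv : ∀ i, H ≤ normalizer (D i : Set G)
  step : ∀ i, i < len → (D (i + 1)).relIndex (D i) ∣ p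

variable {H E : Subgroup G}

theorem Series.le (S : Series p H E) : ∀ i, S.D i ≤ E
  | 0 => S.top.le
  | i + 1 => (S.anti i).trans (S.le i)

/-- The elements of `H` acting trivially on every step. -/
def Series.stab (S : Series p H E) : Subgroup G where
  carrier := {a | a ∈ H ∧
    ∀ i, i < S.len → ∀ v ∈ S.D i, a * v * a⁻¹ * v⁻¹ ∈ S.D (i + 1)}
  one_mem' := ⟨one_mem _, fun i _ v _ => by simp⟩
  mul_mem' := fun {a b} ha hb => ⟨mul_mem ha.1 hb.1, fun i hi v hv => by
    have h1 : b * v * b⁻¹ ∈ S.D i := (mem_normalizer_iff.1 (S.inv i hb.1) v).1 hv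
    rw [show a * b * v * (a * b)⁻¹ * v⁻¹ =
      (a * (b * v * b⁻¹) * a⁻¹ * (b * v * b⁻¹)⁻¹) * (b * v * b⁻¹ * v⁻¹) by group]
    exact mul_mem (ha.2 i hi _ h1) (hb.2 i hi v hv)⟩
  inv_mem' := fun {a} ha => ⟨inv_mem ha.1, fun i hi v hv => by
    have h1 : a⁻¹ * v * a⁻¹⁻¹ ∈ S.D i := (mem_normalizer_iff.1 (S.inv i (inv_mem ha.1)) v).1 hv
    have h2 := inv_mem (ha.2 i hi _ h1)
    rwa [show (a * (a⁻¹ * v * a⁻¹⁻¹) * a⁻¹ * (a⁻¹ * v * a⁻¹⁻¹)⁻¹)⁻¹ = a⁻¹ * v * a⁻¹⁻¹ * v⁻¹ by
      group] at h2⟩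

theorem Series.stab_le (S : Series p H E) : S.stab ≤ H := fun _ ha => ha.1

theorem Series.le_norm (S : Series p H E) : H ≤ normalizer (E : Set G) := fun g hg => by
  have := S.inv 0 hg
  rwa [S.top] at this

theorem Series.stab_conj (S : Series p H E) {a g : G} (ha : a ∈ S.stab)
    (hg : g ∈ H) : g * a * g⁻¹ ∈ S.stab := by
  refine ⟨mul_mem (mul_mem hg ha.1) (inv_mem hg), fun i hi v hv => ?_⟩
  have h1 : g⁻¹ * v * g⁻¹⁻¹ ∈ S.D i := (mem_normalizer_iff.1 (S.inv i (inv_mem hg)) v).1 hv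
  have h2 := (mem_normalizer_iff.1 (S.inv (i + 1) hg) _).1 (ha.2 i hi _ h1)
  rwa [show g * (a * (g⁻¹ * v * g⁻¹⁻¹) * a⁻¹ * (g⁻¹ * v * g⁻¹⁻¹)⁻¹) * g⁻¹ =
    g * a * g⁻¹ * v * (g * a * g⁻¹)⁻¹ * v⁻¹ by group] at h2

/-- The `p`-elements of `H` stabilize the series. -/
theorem Series.mem_stab (S : Series p H E) (hE : IsPGroup p E) {a : G}
    (ha : a ∈ H) {e : ℕ} (he : a ^ p ^ e = 1) : a ∈ S.stab := by
  refine ⟨ha, fun i hi v hv => ?_⟩
  set A := S.D i
  set B := S.D (i + 1)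
  rcases (Nat.dvd_prime hp.out).1 (S.step i hi) with h1 | h1
  · exact relIndex_eq_one.1 h1 (mul_mem ((mem_normalizer_iff.1 (S.inv i ha) v).1 hv) (inv_mem hv))
  haveI : IsPGroup p A → (B.subgroupOf A).Normal := fun hA => by
    haveI := hA.isNilpotent
    refine Subgroup.normal_of_index_eq_minFac_card ?_
    rw [show (B.subgroupOf A).index = p from h1]
    obtain ⟨k, hk⟩ := hA.exists_card_eq
    rcases Nat.eq_zero_or_pos k with rfl | hk0
    · exfalso
      have := (B.subgroupOf A).index_dvd_card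
      rw [show (B.subgroupOf A).index = p from h1, hk, pow_zero, Nat.dvd_one] at this
      exact hp.out.one_lt.ne' this
    rw [hk, Nat.pow_minFac hk0.ne', hp.out.minFac_eq]
  haveI := this (hE.to_le (S.le i))
  set q := QuotientGroup.mk' (B.subgroupOf A)
  have hcard : Nat.card (A ⧸ B.subgroupOf A) = p := h1
  by_contra hne
  have hv' : q ⟨v, hv⟩ ≠ 1 := fun h => hne (mul_mem
    ((mem_normalizer_iff.1 (S.inv (i + 1) ha) v).1 (mem_subgroupOf.1 ((QuotientGroup.eq_one_iff _).1 h)))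
    (inv_mem (mem_subgroupOf.1 ((QuotientGroup.eq_one_iff _).1 h))))
  obtain ⟨c, hc⟩ := mem_zpowers_iff.1 (mem_zpowers_of_prime_card hcard hv'
    (g' := q ⟨a * v * a⁻¹, (mem_normalizer_iff.1 (S.inv i ha) v).1 hv⟩))
  rw [← map_zpow, QuotientGroup.mk'_apply, QuotientGroup.mk'_apply, QuotientGroup.eq,
    mem_subgroupOf] at hc
  simp only [Subgroup.coe_mul, Subgroup.coe_inv, Subgroup.coe_zpow] at hc
  -- `a` raises `v` to the power `c` modulo `B`
  have hit : ∀ j : ℕ, (v ^ c ^ j)⁻¹ * (a ^ j * v * (a ^ j)⁻¹) ∈ B := by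
    intro j
    induction j with
    | zero => simp
    | succ j ih =>
      have h2 := (mem_normalizer_iff.1 (S.inv (i + 1) ha) _).1 ih
      have hpow : ∀ z : ℤ, (v ^ (c * z))⁻¹ * (a * v * a⁻¹) ^ z ∈ B := by
        intro z
        have h3 : q ⟨a * v * a⁻¹, (mem_normalizer_iff.1 (S.inv i ha) v).1 hv⟩ = q ⟨v, hv⟩ ^ c := by
          rw [← map_zpow, QuotientGroup.mk'_apply, QuotientGroup.mk'_apply, eq_comm,
            QuotientGroup.eq, mem_subgroupOf]
          simpa using hc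
        have h4 : q ((⟨v, hv⟩ : A) ^ (c * z))⁻¹ *
            q ((⟨a * v * a⁻¹, (mem_normalizer_iff.1 (S.inv i ha) v).1 hv⟩ : A) ^ z) = 1 := by
          rw [map_inv, map_zpow, map_zpow, h3, ← zpow_mul, inv_mul_cancel]
        rw [← map_mul, QuotientGroup.mk'_apply, QuotientGroup.eq_one_iff, mem_subgroupOf] at h4
        simpa using h4
      have h5 := mul_mem (hpow (c ^ j)) h2
      rw [← pow_succ', conj_zpow] at h5
      rw [pow_succ' a j]
      convert h5 using 1
      group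
  have h6 := hit (p ^ e)
  rw [he, one_mul, inv_one, mul_one] at h6
  -- so `c ≡ 1` modulo `p`
  have hord : orderOf (q ⟨v, hv⟩) = p := by
    refine orderOf_eq_prime ?_ hv'
    rw [← hcard]
    exact pow_card_eq_one'
  have h7 : q ⟨v, hv⟩ ^ (c ^ p ^ e - 1) = 1 := by
    have h8 : q ((⟨v, hv⟩ : A) ^ (c ^ p ^ e))⁻¹ * q ⟨v, hv⟩ = 1 := by
      rw [← map_mul, QuotientGroup.mk'_apply, QuotientGroup.eq_one_iff, mem_subgroupOf]
      simpa using h6
    rw [map_inv, map_zpow, inv_mul_eq_one] at h8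
    rw [zpow_sub, zpow_one, h8, mul_inv_cancel]
  rw [← orderOf_dvd_iff_zpow_eq_one, hord, ← ZMod.intCast_zmod_eq_zero_iff_dvd, Int.cast_sub,
    Int.cast_pow, Int.cast_one, ZMod.pow_card_pow, sub_eq_zero] at h7
  refine hne ?_
  have h9 : (p : ℤ) ∣ c - 1 := (ZMod.intCast_zmod_eq_zero_iff_dvd _ _).1 (by push_cast; rw [h7, sub_self])
  obtain ⟨d, hd⟩ := h9
  have h10 : q ⟨v, hv⟩ ^ c = q ⟨v, hv⟩ := by
    rw [show c = 1 + p * d by omega, zpow_add, zpow_one, zpow_mul, zpow_natCast, ← hord,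
      pow_orderOf_eq_one, one_zpow, mul_one]
  have h11 : q ⟨a * v * a⁻¹, (mem_normalizer_iff.1 (S.inv i ha) v).1 hv⟩ * (q ⟨v, hv⟩)⁻¹ = 1 := by
    have h3 : q ⟨a * v * a⁻¹, (mem_normalizer_iff.1 (S.inv i ha) v).1 hv⟩ = q ⟨v, hv⟩ ^ c := by
      rw [← map_zpow, QuotientGroup.mk'_apply, QuotientGroup.mk'_apply, eq_comm,
        QuotientGroup.eq, mem_subgroupOf]
      simpa using hc
    rw [h3, h10, mul_inv_cancel]
  rw [← map_inv, ← map_mul, QuotientGroup.mk'_apply, QuotientGroup.eq_one_iff, mem_subgroupOf] at h11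
  simpa using h11

/-- The stabilizer acts as a `p`-group. -/
theorem Series.stab_pow (S : Series p H E) (hE : IsPGroup p E) {a : G} (ha : a ∈ S.stab) :
    ∃ e : ℕ, a ^ p ^ e ∈ centralizer (E : Set G) := by
  obtain ⟨k, hk⟩ := hE.exists_card_eq
  suffices key : ∀ t i, S.len ≤ i + t → ∃ e : ℕ, ∀ v ∈ S.D i, Commute (a ^ p ^ e) v by
    obtain ⟨e, he⟩ := key S.len 0 (by omega)
    exact ⟨e, mem_centralizer_iff.2 fun v hv => ((he v (S.top.ge hv)).eq).symm⟩
  intro t
  induction t with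
  | zero =>
    intro i hi
    refine ⟨0, fun v hv => ?_⟩
    have hle : ∀ j, S.len ≤ j → S.D j = ⊥ := fun j hj => by
      induction j, hj using Nat.le_induction with
      | base => exact S.bot
      | succ j _ ih => exact le_bot_iff.1 ((S.anti j).trans ih.le)
    rw [hle i hi, mem_bot] at hv
    subst hv
    exact Commute.one_right _
  | succ t ih =>
    intro i hi
    rcases Nat.lt_or_ge i S.len with hil | hil
    swap
    · exact ih i (by omega)
    obtain ⟨e, he⟩ := ih (i + 1) (by omega)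
    refine ⟨e + k, fun v hv => ?_⟩
    set b := a ^ p ^ e with hb
    have hbK : b ∈ S.stab := pow_mem ha _
    have hd : b * v * b⁻¹ * v⁻¹ ∈ S.D (i + 1) := hbK.2 i hil v hv
    set d := b * v * b⁻¹ * v⁻¹ with hdd
    have hbd : b * d * b⁻¹ = d := by rw [(he d hd).eq, mul_inv_cancel_right]
    have hj : ∀ j : ℕ, b ^ j * v * (b ^ j)⁻¹ = d ^ j * v := by
      intro j
      induction j with
      | zero => simp
      | succ j hj =>
        rw [pow_succ' b, show b * b ^ j * v * (b * b ^ j)⁻¹ = b * (b ^ j * v * (b ^ j)⁻¹) * b⁻¹ by group,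
          hj, show b * (d ^ j * v) * b⁻¹ = (b * d * b⁻¹) ^ j * (b * v * b⁻¹) by rw [conj_pow]; group,
          hbd, pow_succ]
        simp only [hdd]
        group
    have hdE : d ^ p ^ k = 1 := by
      rw [← hk]
      exact congrArg Subtype.val (pow_card_eq_one' (x := (⟨d, S.le _ hd⟩ : E)))
    have h1 := hj (p ^ k)
    rw [hdE, one_mul, mul_inv_eq_iff_eq_mul] at h1
    rw [pow_add, pow_mul]
    exact h1

section
open CfsgLib.Fusion.Goldschmidt

variable (P : Sylow p G)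

theorem inf_corePP_le (hgood : Good P E) : (P : Subgroup G) ⊓ corePP p E ≤ E := by
  obtain ⟨hEP, -, ⟨-, -, hcomm, -, hsup⟩, -⟩ := hgood
  rintro y ⟨hyP, hy⟩
  rw [← hsup] at hy
  haveI := CfsgLib.Coprime.pPrimeCore_characteristic (G := ↥(normalizer (E : Set G))) p
  have hn : core' p E ≤ normalizer (E : Set G) := fun s hs => mem_normalizer_iff.2 fun z => by
      constructor
      · intro hz
        rwa [hcomm s hs z hz, mul_inv_cancel_right]
      · intro hz
        have := hcomm s hs _ hz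
        rw [inv_mul_cancel_right] at this
        rwa [mul_left_cancel this] at hz
  have hy' : y ∈ ((core' p E : Set G) * (E : Set G)) := by
    rw [← coe_mul_of_left_le_normalizer_right _ _ hn]
    exact hy
  obtain ⟨c, hc, e, he, rfl⟩ := hy'
  have hcP : c ∈ (P : Subgroup G) := (mul_mem_cancel_right (hEP he)).1 hyP
  obtain ⟨k, hk⟩ := P.2 ⟨c, hcP⟩
  have h1 : orderOf c ∣ p ^ k := orderOf_dvd_of_pow_eq_one (congrArg Subtype.val hk)
  have h2 : orderOf c ∣ Nat.card (core' p E) := Subgroup.orderOf_dvd_natCard _ hc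
  rw [card_map_of_injective (subtype_injective _)] at h2
  have hc1 : c = 1 := orderOf_eq_one_iff.1 (Nat.eq_one_of_dvd_coprimes
    ((CfsgLib.Coprime.pPrimeCore_coprime (G := ↥(normalizer (E : Set G))) hp.out).pow_right k) h2 h1)
  show c * e ∈ E
  rwa [hc1, one_mul]

/-- A good subgroup with such a series is normalized only by itself in `P`. -/
theorem Series.normalizer_le (S : Series p (normalizer (E : Set G)) E) (hgood : Good P E) :
    (P : Subgroup G) ⊓ normalizer (E : Set G) ≤ E := by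
  have hEp : IsPGroup p E := P.2.to_le hgood.1
  set N := normalizer (E : Set G)
  rintro y ⟨hyP, hyN⟩
  obtain ⟨k, hk⟩ := P.2 ⟨y, hyP⟩
  have hy : y ∈ S.stab := S.mem_stab hEp hyN (congrArg Subtype.val hk)
  refine inf_corePP_le P hgood ⟨hyP, ?_⟩
  set K : Subgroup N := S.stab.subgroupOf N
  haveI : K.Normal := ⟨fun a ha g => mem_subgroupOf.2 (S.stab_conj (mem_subgroupOf.1 ha) g.2)⟩
  haveI := CfsgLib.Coprime.pPrimeCore_characteristic (G := ↥N) p
  set C := Cfsg.pPrimeCore p ↥N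
  haveI : (K.map (QuotientGroup.mk' C)).Normal :=
    (inferInstance : K.Normal).map _ (QuotientGroup.mk'_surjective _)
  have hKp : IsPGroup p (K.map (QuotientGroup.mk' C)) := by
    rintro ⟨_, a, ha, rfl⟩
    obtain ⟨e, he⟩ := S.stab_pow hEp (mem_subgroupOf.1 ha)
    obtain ⟨w, hw, hwe⟩ := hgood.2.1 he
    rw [SetLike.mem_coe, Cfsg.pPrimePCore, mem_comap] at hw
    obtain rfl : w = a ^ p ^ e := Subtype.ext (by rw [SubmonoidClass.coe_pow]; exact hwe)
    obtain ⟨f, hf⟩ := (CfsgLib.Coprime.pCore_isPGroup (G := ↥N ⧸ C) p) ⟨_, hw⟩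
    refine ⟨e + f, Subtype.ext ?_⟩
    have hf' := congrArg Subtype.val hf
    simp only [SubmonoidClass.coe_pow, OneMemClass.coe_one, map_pow] at hf' ⊢
    rw [pow_add, pow_mul, hf']
  refine ⟨⟨y, hyN⟩, ?_, rfl⟩
  rw [SetLike.mem_coe, Cfsg.pPrimePCore, mem_comap]
  exact CfsgLib.Coprime.le_pCore hKp (mem_map_of_mem _ (mem_subgroupOf.2 hy))

end

/-- Elements of `H` normalize a Sylow `p`-subgroup of it up to `C(E)`. -/
theorem Series.exists_normalizer (S : Series p H E) (hE : IsPGroup p E)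
    (hCN : centralizer (E : Set G) ≤ H) {T : Subgroup G} (hT : IsPGroup p T) (hTN : T ≤ H)
    (hTi : ¬ p ∣ T.relIndex H) {g : G} (hg : g ∈ H) :
    ∃ c ∈ centralizer (E : Set G), c * g ∈ normalizer (T : Set G) ∧ c * g ∈ H := by
  set C := centralizer (E : Set G)
  have hTK : T ≤ S.stab := fun t ht => by
    obtain ⟨e, he⟩ := hT ⟨t, ht⟩
    exact S.mem_stab hE (hTN ht) (congrArg Subtype.val he)
  have hCS : C ≤ S.stab := fun c hc => ⟨hCN hc, fun i _ v hv => by
    rw [← mem_centralizer_iff.1 hc v (S.le i hv), mul_inv_cancel_right, mul_inv_cancel]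
    exact one_mem _⟩
  have hTi' : ¬ p ∣ T.relIndex S.stab := fun hd => hTi (hd.trans (by
    rw [← relIndex_mul_relIndex T S.stab H hTK S.stab_le]; exact dvd_mul_right _ _))
  obtain ⟨h, hh, hle⟩ := CfsgLib.Fusion.exists_conj_le_of_not_dvd_relIndex hT hTK hTi'
    (CfsgLib.Fusion.isPGroup_conjBy g hT) (CfsgLib.Fusion.conjBy_le_iff.2 fun y hy =>
      S.stab_conj (hTK hy) hg)
  rw [CfsgLib.Fusion.conjBy_conjBy] at hle
  have hn : h * g ∈ normalizer (T : Set G) :=
    CfsgLib.Fusion.conjBy_eq_iff.1 (CfsgLib.Fusion.conjBy_eq_of_le hle)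
  -- `h` lies in `T C(E)`
  haveI : (C.subgroupOf S.stab).Normal :=
    (normal_subgroupOf_iff_le_normalizer hCS).2 ((S.stab_le.trans S.le_norm).trans
      (CfsgLib.Coprime.normalizer_le_normalizer_centralizer E))
  set T' := T.subgroupOf S.stab
  set C' := C.subgroupOf S.stab
  have hq : IsPGroup p (S.stab ⧸ C') := by
    rintro ⟨a⟩
    obtain ⟨e, he⟩ := S.stab_pow hE a.2
    exact ⟨e, (QuotientGroup.eq_one_iff (a ^ p ^ e)).2 (mem_subgroupOf.2 (by simpa using he))⟩
  obtain ⟨j, hj⟩ := hq.exists_card_eq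
  have h1 : (T' ⊔ C').index ∣ p ^ j := hj ▸ (index_eq_card C') ▸ index_dvd_of_le le_sup_right
  have h2 : ¬ p ∣ (T' ⊔ C').index := fun hd => hTi' (hd.trans (index_dvd_of_le le_sup_left))
  obtain ⟨i, -, hi⟩ := (Nat.dvd_prime_pow hp.out).1 h1
  have htop : T' ⊔ C' = ⊤ := by
    rcases Nat.eq_zero_or_pos i with rfl | hi0
    · exact index_eq_one.1 (hi.trans (pow_zero p))
    · exact absurd (hi ▸ dvd_pow_self p hi0.ne') h2
  obtain ⟨t, ht, c, hc, htc⟩ := mem_sup_of_normal_right.1 (htop ▸ mem_top (⟨h, hh⟩ : S.stab))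
  have e : h = (t : G) * c := (congrArg Subtype.val htc).symm
  refine ⟨c, mem_subgroupOf.1 hc, ?_, mul_mem (hCN (mem_subgroupOf.1 hc)) hg⟩
  have h3 := mul_mem (inv_mem (le_normalizer (mem_subgroupOf.1 ht : (t : G) ∈ T))) hn
  rwa [e, ← mul_assoc, ← mul_assoc, inv_mul_cancel, one_mul] at h3

end CfsgLib.IsoRankTwo
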