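import Cfsg.Agent.Lib.MaxClassFusion.Weights
import Cfsg.Prelude.Def_CaseTheorems

/-!
# The cube map on a 3-group of maximal class and rank two

Below the two step centralizer the cube map moves each layer two steps down, and without an
elementary abelian subgroup of order 27 it does so on the first layer as well.
-/

set_option autoImplicit false
set_option linter.style.haveILetI false
set_option linter.unusedSectionVars false

open Subgroup
open scoped commutatorElement

namespace CfsgLib.IsoRankTwo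

open CfsgLib.MaxClassShift (gam gam_normal gam_anti gam_comm)
open CfsgLib.MaxClassUniform (Uniform)
open CfsgLib.PGroup.MaxClassRank (twoStepAt layer_gen pow_mem_two)
open CfsgLib.MCFusion

universe u

theorem mul_pow_three_of_central {H : Type*} [Group H] {a b w : H} (hab : a * b = w * (b * a))
    (hw : ∀ y, w * y = y * w) (hw3 : w ^ 3 = 1) : (a * b) ^ 3 = a ^ 3 * b ^ 3 := by
  have hba : b * a = w⁻¹ * (a * b) := by rw [hab]; group
  have hwi : ∀ y, w⁻¹ * y = y * w⁻¹ := fun y => by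
    rw [inv_mul_eq_iff_eq_mul, ← mul_assoc, hw y, mul_assoc, mul_inv_cancel, mul_one]
  simp only [pow_succ, pow_zero, one_mul]
  calc a * b * (a * b) * (a * b) = a * (b * a) * (b * a) * b := by group
    _ = a * (w⁻¹ * (a * b)) * (w⁻¹ * (a * b)) * b := by rw [hba]
    _ = w⁻¹ * w⁻¹ * (a * a * (b * a) * b * b) := by
        rw [← mul_assoc a, ← hwi a]
        simp only [mul_assoc]
        congr 1
        rw [← mul_assoc b w⁻¹, ← hwi b]
        simp only [mul_assoc]
        rw [← mul_assoc a w⁻¹, ← hwi a]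
        simp only [mul_assoc]
        rw [← mul_assoc a w⁻¹, ← hwi a]
        simp only [mul_assoc]
    _ = w⁻¹ * w⁻¹ * (a * a * (w⁻¹ * (a * b)) * b * b) := by rw [hba]
    _ = (w ^ 3)⁻¹ * (a * a * a * (b * b * b)) := by
        rw [← mul_assoc (a * a) w⁻¹, ← hwi (a * a)]
        simp only [pow_succ, pow_zero, one_mul, mul_inv_rev, mul_assoc]
    _ = a * a * a * (b * b * b) := by rw [hw3, inv_one, one_mul]

variable {G : Type u} [Group G] [Finite G] {n : ℕ} {x : G} [hf3 : Fact (Nat.Prime 3)]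
  (h : Uniform x 3 n)
include h

theorem twoStep_eq (h4 : 4 ≤ n) : twoStepAt G (n - 2) = twoStepAt G 2 := by
  by_contra hex
  have := (five_le_of_exc h h4 hex).1
  omega

theorem outside_uniform (h4 : 4 ≤ n) {g : G} (hg : g ∉ lev G 1) : Uniform g 3 n := by
  rw [lev_one] at hg
  exact uniform_of_outside h h4 hg (by rwa [twoStep_eq h h4])

theorem quot_one {k : ℕ} {g : G} (hg : g ∈ gam G k) : QuotientGroup.mk' (gam G k) g = 1 :=
  (QuotientGroup.eq_one_iff g).2 hg

theorem quot_comm {k : ℕ} {a b : G} (hc : ⁅a, b⁆ ∈ gam G k) :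
    Commute (QuotientGroup.mk' (gam G k) a) (QuotientGroup.mk' (gam G k) b) := by
  rw [← commutatorElement_eq_one_iff_commute, ← map_commutatorElement]
  exact quot_one h hc

theorem comm_one_one (h4 : 4 ≤ n) {a b : G} (ha : a ∈ lev G 1) (hb : b ∈ lev G 1) :
    ⁅a, b⁆ ∈ gam G 4 := by
  obtain ⟨v, hv, hv'⟩ := exists_notMem_succ h h4 (i := 1) le_rfl (by omega)
  have hne := twoStep_eq h h4
  obtain ⟨i, hi⟩ := exists_zpow_lev h h4 le_rfl (by omega) hv hv' ha
  obtain ⟨j, hj⟩ := exists_zpow_lev h h4 le_rfl (by omega) hv hv' hb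
  rw [← QuotientGroup.eq_one_iff, ← QuotientGroup.mk'_apply, map_commutatorElement,
    commutatorElement_eq_one_iff_commute, show a = v ^ i * ((v ^ i)⁻¹ * a) by group,
    show b = v ^ j * ((v ^ j)⁻¹ * b) by group, map_mul _ (v ^ i), map_mul _ (v ^ j)]
  have h12 : ∀ s ∈ lev G 1, ∀ t ∈ gam G 2,
      Commute (QuotientGroup.mk' (gam G 4) s) (QuotientGroup.mk' (gam G 4) t) := fun s hs t ht =>
    quot_comm h (comm_lev_ne h h4 hne le_rfl (k := 2) (by omega) hs (by rw [lev_eq le_rfl]; exact ht))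
  exact (((Commute.zpow_zpow_self v i j).map _).mul_right (h12 _ (zpow_mem hv i) _ hj)).mul_left
    ((h12 _ (zpow_mem hv j) _ hi).symm.mul_right
      (h12 _ (gam_two_le_lev_one h hi) _ hj))

theorem comm_same (h4 : 4 ≤ n) {i : ℕ} (hi : 1 ≤ i) {a b : G} (ha : a ∈ lev G i) (hb : b ∈ lev G i) :
    ⁅a, b⁆ ∈ gam G (i + 3) := by
  rcases hi.eq_or_lt with rfl | hi2
  · exact comm_one_one h h4 ha hb
  · exact gam_anti (show i + 3 ≤ i + i + 1 by omega)
      (comm_lev_ne h h4 (twoStep_eq h h4) hi hi ha hb)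

theorem cube_mem (h4 : 4 ≤ n) {i : ℕ} (hi : 1 ≤ i) {b : G} (hb : b ∈ lev G i) :
    b ^ 3 ∈ gam G (i + 2) := by
  rcases hi.eq_or_lt with rfl | hi2
  · set c := ⁅x, b⁆
    have hc : c ∈ gam G 2 := gam_comm (a := 1) (b := 1) le_rfl le_rfl (mem_top x) (mem_top b)
    have hb2 : b ^ 3 ∈ gam G 2 := pow_mem_two h.isPGroup h.card h.three h.class_eq b
    have hcb : ⁅c, b⁆ ∈ gam G 4 := comm_one_one h h4 (gam_two_le_lev_one h hc) hb
    have hc3 : c ^ 3 ∈ gam G 4 := (h.pow_shift n 2 le_rfl (by omega) c hc).1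
    have e : ⁅x, b ^ 3⁆ ∈ gam G 4 := by
      rw [← QuotientGroup.eq_one_iff, ← QuotientGroup.mk'_apply, commutatorElement_def,
        ← conj_pow, show x * b * x⁻¹ = c * b by simp only [c, commutatorElement_def]; group,
        map_mul, map_pow, map_mul, (quot_comm h hcb).mul_pow, ← map_pow, quot_one h hc3, one_mul,
        map_inv, ← map_pow, mul_inv_cancel]
    refine CfsgLib.MaxClassWeight.mem_succ_of_comm h le_rfl (by omega) hb2 ?_
    rw [← commutatorElement_inv]
    exact inv_mem e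
  · rw [lev_eq hi2] at hb
    exact (h.pow_shift n i hi2 (by omega) b hb).1

/-- Powers by `3 ^ j` are multiplicative on a layer modulo the layer `2 j + 1` below it. -/
theorem pow_mul_layers (h4 : 4 ≤ n) {i : ℕ} (hi : 1 ≤ i) : ∀ j : ℕ, ∀ a ∈ lev G i, ∀ b ∈ lev G i,
    a ^ 3 ^ j ∈ lev G (i + 2 * j) ∧
      ((a ^ 3 ^ j) * b ^ 3 ^ j)⁻¹ * (a * b) ^ 3 ^ j ∈ gam G (i + 2 * j + 1) := by
  intro j
  induction j with
  | zero =>
    intro a ha b hb
    simp only [pow_zero, pow_one, Nat.mul_zero, Nat.add_zero]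
    exact ⟨ha, by rw [inv_mul_cancel]; exact one_mem _⟩
  | succ j ih =>
    intro a ha b hb
    obtain ⟨haj, hab⟩ := ih a ha b hb
    have hbj := (ih b hb a ha).1
    set k := i + 2 * j with hk
    set c := ((a ^ 3 ^ j) * b ^ 3 ^ j)⁻¹ * (a * b) ^ 3 ^ j with hc
    have hk1 : 1 ≤ k := by omega
    refine ⟨?_, ?_⟩
    · rw [show i + 2 * (j + 1) = k + 2 by omega, lev_eq (by omega), pow_succ, pow_mul]
      exact cube_mem h h4 hk1 haj
    have hc1 : c ∈ lev G (k + 1) := by rw [lev_eq (by omega)]; exact hab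
    have hck : c ∈ lev G k := lev_anti h (Nat.le_succ k) hc1
    rw [show i + 2 * (j + 1) + 1 = k + 3 by omega, ← QuotientGroup.eq_one_iff,
      ← QuotientGroup.mk'_apply]
    set q := QuotientGroup.mk' (gam G (k + 3)) with hq
    have hcm : ∀ s ∈ lev G k, ∀ t ∈ lev G k, Commute (q s) (q t) := fun s hs t ht =>
      quot_comm h (comm_same h h4 hk1 hs ht)
    have hc3 : q c ^ 3 = 1 := by
      rw [← map_pow]
      exact quot_one h (cube_mem h h4 (by omega) hc1)
    rw [pow_succ 3 j, pow_mul, pow_mul, pow_mul]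
    rw [show (a * b) ^ 3 ^ j = a ^ 3 ^ j * b ^ 3 ^ j * c by rw [hc, mul_inv_cancel_left]]
    rw [map_mul, map_inv, map_mul, map_pow q (a ^ 3 ^ j) 3, map_pow q (b ^ 3 ^ j) 3,
      map_pow q (a ^ 3 ^ j * b ^ 3 ^ j * c) 3, map_mul, map_mul,
      ((hcm _ haj _ hck).mul_left (hcm _ hbj _ hck)).mul_pow, (hcm _ haj _ hbj).mul_pow, hc3,
      mul_one, inv_mul_cancel]

/-- Without elementary subgroups of order 27 the first layer has cubes outside `γ₄`. -/
theorem cube_notMem (h4 : 4 ≤ n) (hrk : Cfsg.PRankLE 3 2 G) {b : G} (hb : b ∈ lev G 1)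
    (hb' : b ∉ gam G 2) : b ^ 3 ∉ gam G 4 := by
  suffices key : ∀ t k, 4 ≤ k → n ≤ k + t → ∀ b ∈ lev G 1, b ∉ gam G 2 → b ^ 3 ∉ gam G k from
    key n 4 le_rfl (by omega) b hb hb'
  intro t
  induction t with
  | zero =>
    intro k _ hk b hb hb' hb3
    rw [h.gam_eq_bot (show n ≤ k by omega), mem_bot] at hb3
    have hW : ∀ v ∈ gam G (n - 2), v ^ 3 = 1 ∧ Commute b v ∧ ∀ w ∈ gam G (n - 2), Commute v w := by
      intro v hv
      refine ⟨?_, ?_, fun w hw => ?_⟩
      · have := (h.pow_shift n (n - 2) (by omega) (by omega) v hv).1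
        rwa [h.gam_eq_bot (by omega), mem_bot] at this
      · have := comm_lev_ne h h4 (twoStep_eq h h4) le_rfl (k := n - 2) (by omega) hb
          (by rw [lev_eq (by omega)]; exact hv)
        rwa [h.gam_eq_bot (by omega), mem_bot, commutatorElement_eq_one_iff_commute] at this
      · have := gam_comm (a := n - 2) (b := n - 2) (by omega) (by omega) hv hw
        rwa [h.gam_eq_bot (by omega), mem_bot, commutatorElement_eq_one_iff_commute] at this
    set E := closure (insert b (gam G (n - 2) : Set G)) with hE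
    haveI hEc : IsMulCommutative E := isMulCommutative_closure (by
      rintro y (rfl | hy) z (rfl | hz)
      · rfl
      · exact (hW z hz).2.1
      · exact (hW y hy).2.1.symm
      · exact (hW y hy).2.2 z hz)
    have hEe : ∀ z ∈ E, z ^ 3 = 1 := by
      intro z hz
      induction hz using closure_induction with
      | mem y hy =>
        rcases hy with rfl | hy
        · exact hb3
        · exact (hW y hy).1
      | one => exact one_pow 3
      | mul y z hy hz iy iz =>
        have : Commute y z := congrArg Subtype.val (isMulCommutative_iff.1 hEc ⟨y, hy⟩ ⟨z, hz⟩)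
        rw [this.mul_pow, iy, iz, one_mul]
      | inv y hy iy => rw [inv_pow, iy, inv_one]
    have hlt : gam G (n - 2) < E :=
      lt_of_le_of_ne (fun y hy => subset_closure (Or.inr hy)) fun e =>
        hb' (gam_anti (show 2 ≤ n - 2 by omega) (e.ge (subset_closure (Or.inl rfl))))
    have h1 := CfsgLib.MaxClassCube.mul_card_le h.isPGroup hlt
    rw [h.card_gam (by omega) (by omega), show n - (n - 2) = 2 by omega] at h1
    have h2 := hrk E hEc hEe
    omega
  | succ t ih =>
    intro k hk4 hk b hb hb' hb3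
    rcases Nat.lt_or_ge k n with hkn | hkn
    swap
    · exact ih k hk4 (by omega) b hb hb' hb3
    obtain ⟨v, hv, hv'⟩ := exists_notMem_succ h h4 (i := k - 2) (by omega) (by omega)
    rw [lev_eq (by omega)] at hv
    obtain ⟨hv3, hv3'⟩ := h.pow_shift n (k - 2) (by omega) (by omega) v hv
    rw [show k - 2 + 3 - 1 = k by omega] at hv3 hv3'
    have hv3'' := hv3' hv' hkn
    rw [show k - 2 + 3 = k + 1 by omega] at hv3''
    obtain ⟨e, he⟩ := layer_gen h.isPGroup h.card h.three h.class_eq (show 2 ≤ k by omega) hkn hv3 hv3'' hb3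
    set c := (v ^ e)⁻¹ with hc
    have hcg : c ∈ gam G (k - 2) := inv_mem (zpow_mem hv e)
    have hc1 : c ∈ lev G 1 := gam_two_le_lev_one h (gam_anti (by omega) hcg)
    refine ih (k + 1) (by omega) (by omega) (b * c) (mul_mem hb hc1)
      (fun hbc => hb' ((mul_mem_cancel_right (gam_anti (by omega) hcg)).1 hbc)) ?_
    have hw : ⁅b, c⁆ ∈ gam G k := by
      have := comm_lev_ne h h4 (twoStep_eq h h4) le_rfl (k := k - 2) (by omega) hb
        (by rw [lev_eq (by omega)]; exact hcg)
      exact gam_anti (by omega) this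
    set q := QuotientGroup.mk' (gam G (k + 1))
    rw [← QuotientGroup.eq_one_iff, ← QuotientGroup.mk'_apply, map_pow, map_mul]
    have hwc : ∀ y, q ⁅b, c⁆ * y = y * q ⁅b, c⁆ := by
      intro y
      obtain ⟨g, rfl⟩ := QuotientGroup.mk'_surjective _ y
      exact (quot_comm h (gam_comm (b := 1) (by omega) le_rfl hw (mem_top g))).eq
    have hw3 : q ⁅b, c⁆ ^ 3 = 1 := by
      rw [← map_pow]
      exact quot_one h (gam_anti (show k + 1 ≤ k + 2 by omega)
        (h.pow_shift n k (by omega) (by omega) _ hw).1)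
    have hab : q b * q c = q ⁅b, c⁆ * (q c * q b) := by
      rw [← map_mul, ← map_mul, ← map_mul, commutatorElement_def]
      congr 1
      group
    rw [mul_pow_three_of_central hab hwc hw3, ← map_pow, ← map_pow, ← map_mul]
    refine quot_one h ?_
    have h5 : c ^ 3 = ((v ^ 3) ^ e)⁻¹ := by
      rw [hc, inv_pow, ← zpow_natCast, ← zpow_mul, ← zpow_natCast v 3, ← zpow_mul, mul_comm]
    rw [h5]
    have h6 := (gam_normal (G := G) (k + 1)).conj_mem _ he ((v ^ 3) ^ e)
    rwa [mul_inv_cancel_left] at h6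

/-- The elements of order three of the two step centralizer lie in `γ_{n-2}`. -/
theorem mem_of_cube_eq_one (h4 : 4 ≤ n) (hrk : Cfsg.PRankLE 3 2 G) {b : G} (hb : b ∈ lev G 1)
    (hb3 : b ^ 3 = 1) : b ∈ gam G (n - 2) := by
  have hb2 : b ∈ gam G 2 := by
    by_contra hb'
    exact cube_notMem h h4 hrk hb hb' (hb3 ▸ one_mem _)
  by_contra hne
  obtain ⟨L, hL2, hLn, hL, hL'⟩ := exists_level (show 2 ≤ n - 2 by omega) hb2 hne
  have := (h.pow_shift n L hL2 (by omega) b hL).2 hL' (by omega)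
  exact this (hb3 ▸ one_mem _)

variable {m : ℕ} (hm : n = 2 * m) (h2 : 2 ≤ m) (hrk : Cfsg.PRankLE 3 2 G)
include hm h2

theorem theta_mem {b : G} (hb : b ∈ lev G 1) : b ^ 3 ^ (m - 1) ∈ gam G (n - 1) := by
  have := (pow_mul_layers h (by omega) le_rfl (m - 1) b hb b hb).1
  rw [show 1 + 2 * (m - 1) = n - 1 by omega, lev_eq (by omega)] at this
  exact this

theorem theta_mul {a b : G} (ha : a ∈ lev G 1) (hb : b ∈ lev G 1) :
    (a * b) ^ 3 ^ (m - 1) = a ^ 3 ^ (m - 1) * b ^ 3 ^ (m - 1) := by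
  have := (pow_mul_layers h (by omega) le_rfl (m - 1) a ha b hb).2
  rw [h.gam_eq_bot (by omega), mem_bot, inv_mul_eq_one] at this
  exact this.symm

theorem theta_gam {b : G} (hb : b ∈ gam G 2) : b ^ 3 ^ (m - 1) = 1 := by
  have := (pow_mul_layers h (by omega) (i := 2) (by omega) (m - 1) b
    (by rw [lev_eq le_rfl]; exact hb) b (by rw [lev_eq le_rfl]; exact hb)).1
  rw [lev_eq (by omega), h.gam_eq_bot (by omega), mem_bot] at this
  exact this

include hrk

theorem theta_ne {b : G} (hb : b ∈ lev G 1) (hb' : b ∉ gam G 2) : b ^ 3 ^ (m - 1) ≠ 1 := by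
  have key : ∀ j, j + 2 ≤ m → (b ^ 3) ^ 3 ^ j ∈ gam G (3 + 2 * j) ∧
      (b ^ 3) ^ 3 ^ j ∉ gam G (4 + 2 * j) := by
    intro j
    induction j with
    | zero =>
      intro _
      simpa using ⟨cube_mem h (by omega) le_rfl hb, cube_notMem h (by omega) hrk hb hb'⟩
    | succ j ih =>
      intro hj
      obtain ⟨h1, h1'⟩ := ih (by omega)
      obtain ⟨h3, h3'⟩ := h.pow_shift n (3 + 2 * j) (by omega) (by omega) _ h1
      rw [pow_succ 3 j, pow_mul ((b : G) ^ 3)]
      exact ⟨gam_anti (by omega) h3, fun hc => h3' (fun hh => h1' (gam_anti (by omega) hh)) (by omega) (gam_anti (by omega) hc)⟩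
  intro he
  refine (key (m - 2) (by omega)).2 ?_
  rw [← pow_mul, ← pow_succ', show m - 2 + 1 = m - 1 by omega, he]
  exact one_mem _

end CfsgLib.IsoRankTwo
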