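import Cfsg.Agent.Lib.IsolatedRankTwo.ThreeLayers
import Cfsg.Agent.Lib.IsolatedRankTwo.SeriesStab
import Cfsg.Agent.Lib.PGroup.Isolated

/-!
# Series in the subgroups of a Sylow 3-subgroup of maximal class

Setting: a Sylow 3-subgroup of maximal class, even exponent and rank two with an isolated element of
order three. Subgroups outside the two step centralizer which contain the isolated element have
maximal class, hence invariant series with steps of index three unless they have order 27 and
exponent three; their normalizers in the Sylow subgroup are Sylow subgroups of their normalizers.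
-/

set_option autoImplicit false
set_option linter.style.haveILetI false
set_option linter.unusedSectionVars false

open Subgroup
open scoped commutatorElement

namespace CfsgLib.IsoRankTwo

open CfsgLib.MaxClassShift (gam gam_normal gam_anti gam_comm)
open CfsgLib.MaxClassUniform (Uniform)
open CfsgLib.MCFusion

universe u

variable {G : Type u} [Group G] [Finite G] [hf3 : Fact (Nat.Prime 3)]

/-- The two step centralizer of `P` as a subgroup of `G`. -/
def levOne (P : Subgroup G) : Subgroup G := (lev ↥P 1).map P.subtype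

/-- The derived group of `P` as a subgroup of `G`. -/
def gamTwo (P : Subgroup G) : Subgroup G := (gam ↥P 2).map P.subtype

/-- A Sylow 3-subgroup of maximal class, order an even power, with an isolated element. -/
structure Setting (P : Sylow 3 G) (x : G) (m : ℕ) : Prop where
  two : 2 ≤ m
  rank : Cfsg.PRankLE 3 2 G
  uni : ∃ w : ↥(P : Subgroup G), Uniform w 3 (2 * m)
  ord : orderOf x = 3
  iso : Cfsg.IsIsolated x
  mem : x ∈ (P : Subgroup G)

theorem mem_levOne {P : Subgroup G} {a : G} (ha : a ∈ P) : a ∈ levOne P ↔ (⟨a, ha⟩ : ↥P) ∈ lev ↥P 1 := by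
  refine ⟨?_, fun h => ⟨_, h, rfl⟩⟩
  rintro ⟨b, hb, rfl⟩
  exact hb

theorem mem_gamTwo {P : Subgroup G} {a : G} (ha : a ∈ P) : a ∈ gamTwo P ↔ (⟨a, ha⟩ : ↥P) ∈ gam ↥P 2 := by
  refine ⟨?_, fun h => ⟨_, h, rfl⟩⟩
  rintro ⟨b, hb, rfl⟩
  exact hb

theorem commutator_mem_gamTwo {P : Subgroup G} {a b : G} (ha : a ∈ P) (hb : b ∈ P) :
    ⁅a, b⁆ ∈ gamTwo P :=
  ⟨⁅(⟨a, ha⟩ : ↥P), ⟨b, hb⟩⁆, gam_comm (a := 1) (b := 1) le_rfl le_rfl (mem_top _) (mem_top _), rfl⟩

/-- A proper subgroup of a 3-group has index at least three. -/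
theorem three_mul_card_le {K L : Subgroup G} (hL : IsPGroup 3 L) (hlt : K < L) :
    3 * Nat.card K ≤ Nat.card L := by
  obtain ⟨a, ha⟩ := (hL.to_le hlt.le).exists_card_eq
  obtain ⟨b, hb⟩ := hL.exists_card_eq
  have : a < b := by
    by_contra hc
    refine hlt.ne (eq_of_le_of_card_ge hlt.le ?_)
    rw [ha, hb]
    exact Nat.pow_le_pow_right (by norm_num) (by omega)
  rw [ha, hb, ← pow_succ']
  exact Nat.pow_le_pow_right (by norm_num) this

/-- A subgroup of `R` invariant under all automorphisms is invariant under `N(R)`. -/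
theorem normalizer_le_normalizer_aut {R : Subgroup G} {K : Subgroup ↥R}
    (hK : ∀ (Φ : MulAut ↥R), ∀ v ∈ K, Φ v ∈ K) :
    normalizer (R : Set G) ≤ normalizer (K.map R.subtype : Set G) := by
  have key : ∀ g ∈ normalizer (R : Set G), ∀ a ∈ K.map R.subtype, g * a * g⁻¹ ∈ K.map R.subtype := by
    rintro g hg _ ⟨b, hb, rfl⟩
    exact ⟨R.normalizerMonoidHom ⟨g, hg⟩ b, hK _ b hb, rfl⟩
  intro g hg
  refine mem_normalizer_iff.2 fun a => ⟨key g hg a, fun ha => ?_⟩
  have := key g⁻¹ (inv_mem hg) _ ha
  simpa [mul_assoc] using this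

namespace Setting

variable {P : Sylow 3 G} {x : G} {m : ℕ} (h : Setting P x m)
include h

theorem rankP : Cfsg.PRankLE 3 2 ↥(P : Subgroup G) := by
  intro A hA hAe
  haveI := hA
  have h1 := h.rank (A.map (P : Subgroup G).subtype) inferInstance (by
    rintro _ ⟨y, hy, rfl⟩
    rw [← map_pow, hAe y hy, map_one])
  rwa [card_map_of_injective (P : Subgroup G).subtype_injective] at h1

theorem gamTwo_le : gamTwo (P : Subgroup G) ≤ levOne (P : Subgroup G) := by
  obtain ⟨w, hw⟩ := h.uni
  exact map_mono (gam_two_le_lev_one hw)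

theorem uniform_out {v : G} (hv : v ∈ (P : Subgroup G)) (hv1 : v ∉ levOne (P : Subgroup G)) :
    Uniform (⟨v, hv⟩ : ↥(P : Subgroup G)) 3 (2 * m) := by
  obtain ⟨w, hw⟩ := h.uni
  exact outside_uniform hw (by have := h.two; omega) fun hc => hv1 ((mem_levOne hv).2 hc)

theorem mem_center : (⟨x, h.mem⟩ : ↥(P : Subgroup G)) ∈ gam ↥(P : Subgroup G) (2 * m - 1) := by
  obtain ⟨w, hw⟩ := h.uni
  have hm := h.two
  have hle : gam ↥(P : Subgroup G) (2 * m - 1) ≤ center ↥(P : Subgroup G) := fun z hz =>
    Subgroup.mem_center_iff.2 fun g => comm_gam_central hw hz g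
  have heq := eq_of_le_of_card_ge hle (by
    rw [CfsgLib.PGroup.card_center_of_maximal hw.isPGroup hw.card hw.three hw.class_eq,
      hw.card_gam (by omega) (by omega), show 2 * m - (2 * m - 1) = 1 by omega, pow_one])
  rw [heq]
  refine Subgroup.mem_center_iff.2 fun g => Subtype.ext ?_
  exact mem_centralizer_singleton_iff.1 (Isolated.le_centralizer h.iso P.2 h.mem g.2)

theorem mem_zpowers_of_last {z : ↥(P : Subgroup G)} (hz : z ∈ gam ↥(P : Subgroup G) (2 * m - 1)) :
    (z : G) ∈ zpowers x := by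
  obtain ⟨w, hw⟩ := h.uni
  have hm := h.two
  have hle : zpowers (⟨x, h.mem⟩ : ↥(P : Subgroup G)) ≤ gam ↥(P : Subgroup G) (2 * m - 1) :=
    zpowers_le.2 h.mem_center
  have heq := eq_of_le_of_card_ge hle (by
    rw [hw.card_gam (by omega) (by omega), Nat.card_zpowers, orderOf_mk, h.ord,
      show 2 * m - (2 * m - 1) = 1 by omega, pow_one])
  rw [← heq] at hz
  obtain ⟨i, rfl⟩ := mem_zpowers_iff.1 hz
  exact ⟨i, rfl⟩

theorem mem_gamTwo_self : x ∈ gamTwo (P : Subgroup G) :=
  (mem_gamTwo h.mem).2 (gam_anti (by have := h.two; omega) h.mem_center)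

theorem mem_levOne_self : x ∈ levOne (P : Subgroup G) := h.gamTwo_le h.mem_gamTwo_self

/-- The normalizer of a subgroup of `P` containing `x` fixes it. -/
theorem fix {E : Subgroup G} (hEP : E ≤ (P : Subgroup G)) (hxE : x ∈ E) {g : G}
    (hg : g ∈ normalizer (E : Set G)) : g * x * g⁻¹ = x :=
  Isolated.conj_eq h.iso P.2 h.mem (hEP ((mem_normalizer_iff.1 hg x).1 hxE))

theorem normalizer_le_zpowers {E : Subgroup G} (hEP : E ≤ (P : Subgroup G)) (hxE : x ∈ E) :
    normalizer (E : Set G) ≤ normalizer (zpowers x : Set G) := by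
  intro g hg
  have key : ∀ g : G, g * x * g⁻¹ = x → ∀ a ∈ zpowers x, g * a * g⁻¹ ∈ zpowers x := by
    rintro g hg _ ⟨i, rfl⟩
    exact ⟨i, by simp only []; rw [← conj_zpow, hg]⟩
  refine mem_normalizer_iff.2 fun a => ⟨key g (h.fix hEP hxE hg) a, fun ha => ?_⟩
  have := key g⁻¹ (h.fix hEP hxE (inv_mem hg)) _ ha
  simpa [mul_assoc] using this

theorem card_centralizer_le {v : G} (hv : v ∈ (P : Subgroup G)) (hv1 : v ∉ levOne (P : Subgroup G))
    {R : Subgroup G} (hR : R ≤ (P : Subgroup G)) :
    Nat.card (R ⊓ centralizer ({v} : Set G) : Subgroup G) ≤ 9 := by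
  have hu := (h.uniform_out hv hv1).cent
  rw [← card_map_of_injective (P : Subgroup G).subtype_injective] at hu
  refine (card_le_of_le ?_).trans hu.le
  rintro a ⟨haR, ha⟩
  exact ⟨⟨a, hR haR⟩, mem_centralizer_singleton_iff.2 (Subtype.ext (mem_centralizer_singleton_iff.1 ha)), rfl⟩

/-- The subgroups containing `x` and an element outside the two step centralizer have maximal
class. -/
theorem uniform_sub {R : Subgroup G} (hR : R ≤ (P : Subgroup G)) {v : G} (hvR : v ∈ R)
    (hv1 : v ∉ levOne (P : Subgroup G)) (hxR : x ∈ R) (h27 : 27 ≤ Nat.card R) :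
    ∃ k, 3 ≤ k ∧ Nat.card R = 3 ^ k ∧ Uniform (⟨v, hvR⟩ : ↥R) 3 k := by
  obtain ⟨k, hk⟩ := (P.2.to_le hR).exists_card_eq
  have hk3 : 3 ≤ k := by
    by_contra hc
    rw [hk] at h27
    have := h27.trans (Nat.pow_le_pow_right (by norm_num) (show k ≤ 2 by omega))
    norm_num at this
  set C := centralizer ({(⟨v, hvR⟩ : ↥R)} : Set ↥R) with hC
  have hCle : Nat.card C ≤ 9 := by
    rw [← card_map_of_injective R.subtype_injective]
    refine (card_le_of_le ?_).trans (h.card_centralizer_le (hR hvR) hv1 hR)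
    rintro _ ⟨a, ha, rfl⟩
    exact ⟨a.2, mem_centralizer_singleton_iff.2
      (congrArg Subtype.val (mem_centralizer_singleton_iff.1 ha))⟩
  obtain ⟨i, hi⟩ := ((P.2.to_le hR).to_subgroup C).exists_card_eq
  have hi2 : 2 ≤ i := by
    by_contra hc
    have hxC : (⟨x, hxR⟩ : ↥R) ∈ C := mem_centralizer_singleton_iff.2 (Subtype.ext
      (mem_centralizer_singleton_iff.1 (Isolated.le_centralizer h.iso P.2 h.mem (hR hvR))).symm)
    have heq := eq_of_le_of_card_ge (zpowers_le.2 hxC) (by
      rw [hi, Nat.card_zpowers, orderOf_mk, h.ord]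
      exact (Nat.pow_le_pow_right (by norm_num) (show i ≤ 1 by omega)).trans (pow_one 3).le)
    have hvC : (⟨v, hvR⟩ : ↥R) ∈ C := mem_centralizer_singleton_iff.2 rfl
    rw [← heq] at hvC
    obtain ⟨j, hj⟩ := mem_zpowers_iff.1 hvC
    have e : x ^ j = v := congrArg Subtype.val hj
    exact hv1 (e ▸ zpow_mem h.mem_levOne_self j)
  refine ⟨k, hk3, hk, hk, ?_, hk3⟩
  rw [hi] at hCle ⊢
  have := (Nat.pow_le_pow_iff_right (show 1 < 3 by norm_num)).1 (hCle.trans (show 9 ≤ 3 ^ 2 by norm_num))
  congr 1; omega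

end Setting

/-- The invariant series of a group of maximal class. -/
theorem nonempty_series_maxClass {R : Subgroup G} {w : ↥R} {k : ℕ} (hw : Uniform w 3 k) (h4 : 4 ≤ k) :
    Nonempty (Series 3 (normalizer (R : Set G)) R) := by
  have hcard : ∀ i, 1 ≤ i → i ≤ k → Nat.card (lev ↥R i) = 3 ^ (k - i) := by
    intro i hi hik
    rcases hi.eq_or_lt with rfl | hi2
    · have e := (lev ↥R 1).card_mul_index
      rw [lev_one, CfsgLib.MaxClassEss.index_twoStepAt hw le_rfl (by omega), hw.card] at e
      rw [lev_one]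
      refine Nat.eq_of_mul_eq_mul_right (show 0 < 3 by norm_num) (e.trans ?_)
      rw [← pow_succ]; congr 1; omega
    · rw [lev_eq hi2]; exact hw.card_gam hi2 hik
  refine ⟨{ len := k, D := fun i => if i = 0 then R else (lev ↥R i).map R.subtype,
            top := if_pos rfl, bot := ?_, anti := ?_, inv := ?_, step := ?_ }⟩
  · simp only [show k ≠ 0 by omega, if_false, lev_eq (show 2 ≤ k by omega), hw.gam_eq_bot le_rfl,
      Subgroup.map_bot]
  · intro i
    rcases Nat.eq_zero_or_pos i with rfl | hi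
    · simpa using map_subtype_le (lev ↥R 1)
    · simp only [show i + 1 ≠ 0 by omega, show i ≠ 0 by omega, if_false]
      exact map_mono (lev_anti hw (Nat.le_succ i))
  · intro i
    rcases Nat.eq_zero_or_pos i with rfl | hi
    · simp
    · simp only [show i ≠ 0 by omega, if_false]
      exact normalizer_le_normalizer_aut fun Φ v hv => map_lev_mem hw Φ hv
  · intro i hi
    rcases Nat.eq_zero_or_pos i with rfl | hi'
    · simp only [Nat.zero_add, one_ne_zero, if_false, if_true]
      rw [relIndex, subgroupOf, comap_map_eq_self_of_injective R.subtype_injective, lev_one,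
        CfsgLib.MaxClassEss.index_twoStepAt hw le_rfl (by omega)]
    · simp only [show i + 1 ≠ 0 by omega, show i ≠ 0 by omega, if_false]
      rw [relIndex_map_map_of_injective _ _ R.subtype_injective]
      have e := relIndex_mul_relIndex (⊥ : Subgroup ↥R) (lev ↥R (i + 1)) (lev ↥R i) bot_le
        (lev_anti hw (Nat.le_succ i))
      rw [relIndex_bot_left, relIndex_bot_left, hcard i hi' (by omega),
        hcard (i + 1) (by omega) (by omega)] at e
      refine dvd_of_eq (Nat.eq_of_mul_eq_mul_left (pow_pos (show 0 < 3 by norm_num) (k - (i + 1))) ?_)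
      rw [e, ← pow_succ]; congr 1; omega

/-- The series of a flag. -/
theorem nonempty_series_flag {H E F : Subgroup G} {x : G} (hx : orderOf x = 3) (hxF : x ∈ F)
    (hFE : F ≤ E) (hF : Nat.card F = 9) (hE : Nat.card E = 27) (hHE : H ≤ normalizer (E : Set G))
    (hHF : H ≤ normalizer (F : Set G)) (hHx : H ≤ normalizer (zpowers x : Set G)) :
    Nonempty (Series 3 H E) := by
  refine ⟨{ len := 3, D := fun i => match i with | 0 => E | 1 => F | 2 => zpowers x | _ + 3 => ⊥,
            top := rfl, bot := rfl, anti := ?_, inv := ?_, step := ?_ }⟩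
  · intro i
    rcases i with _ | _ | _ | i
    · exact hFE
    · exact zpowers_le.2 hxF
    · exact bot_le
    · exact le_rfl
  · intro i
    rcases i with _ | _ | _ | i
    · exact hHE
    · exact hHF
    · exact hHx
    · exact le_top.trans (normalizer_eq_top_iff.2 inferInstance).ge
  · intro i hi
    rcases (show i = 0 ∨ i = 1 ∨ i = 2 by omega) with rfl | rfl | rfl
    · show F.relIndex E ∣ 3
      have e := relIndex_mul_relIndex (⊥ : Subgroup G) F E bot_le hFE
      rw [relIndex_bot_left, relIndex_bot_left, hF, hE] at e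
      exact dvd_of_eq (by omega)
    · show (zpowers x).relIndex F ∣ 3
      have e := relIndex_mul_relIndex (⊥ : Subgroup G) (zpowers x) F bot_le (zpowers_le.2 hxF)
      rw [relIndex_bot_left, relIndex_bot_left, Nat.card_zpowers, hx, hF] at e
      exact dvd_of_eq (by omega)
    · show (⊥ : Subgroup G).relIndex (zpowers x) ∣ 3
      rw [relIndex_bot_left, Nat.card_zpowers, hx]

/-- The series of a subgroup of order nine. -/
theorem nonempty_series_nine {H E : Subgroup G} {x : G} (hx : orderOf x = 3) (hxE : x ∈ E)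
    (hE : Nat.card E = 9) (hHE : H ≤ normalizer (E : Set G))
    (hHx : H ≤ normalizer (zpowers x : Set G)) : Nonempty (Series 3 H E) := by
  refine ⟨{ len := 2, D := fun i => match i with | 0 => E | 1 => zpowers x | _ + 2 => ⊥,
            top := rfl, bot := rfl, anti := ?_, inv := ?_, step := ?_ }⟩
  · intro i
    rcases i with _ | _ | i
    · exact zpowers_le.2 hxE
    · exact bot_le
    · exact le_rfl
  · intro i
    rcases i with _ | _ | i
    · exact hHE
    · exact hHx
    · exact le_top.trans (normalizer_eq_top_iff.2 inferInstance).ge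
  · intro i hi
    rcases (show i = 0 ∨ i = 1 by omega) with rfl | rfl
    · show (zpowers x).relIndex E ∣ 3
      have e := relIndex_mul_relIndex (⊥ : Subgroup G) (zpowers x) E bot_le (zpowers_le.2 hxE)
      rw [relIndex_bot_left, relIndex_bot_left, Nat.card_zpowers, hx, hE] at e
      exact dvd_of_eq (by omega)
    · show (⊥ : Subgroup G).relIndex (zpowers x) ∣ 3
      rw [relIndex_bot_left, Nat.card_zpowers, hx]

namespace Setting

open CfsgLib.Fusion (conjBy)

variable {P : Sylow 3 G} {x : G} {m : ℕ} (h : Setting P x m)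
include h

/-- A subgroup of order 27 and exponent three is not inside the two step centralizer. -/
theorem not_le_levOne {E : Subgroup G} (hE : Nat.card E = 27) (he : ∀ a ∈ E, a ^ 3 = 1) :
    ¬ E ≤ levOne (P : Subgroup G) := by
  obtain ⟨w, hw⟩ := h.uni
  have hm := h.two
  intro hle
  have h1 : E ≤ (gam ↥(P : Subgroup G) (2 * m - 2)).map (P : Subgroup G).subtype := by
    intro a ha
    obtain ⟨b, hb, rfl⟩ := hle ha
    exact ⟨b, mem_of_cube_eq_one hw (by omega) h.rankP hb (Subtype.ext (he _ ha)), rfl⟩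
  have h2 := card_le_of_le h1
  rw [hE, card_map_of_injective (P : Subgroup G).subtype_injective, hw.card_gam (by omega) (by omega),
    show 2 * m - (2 * m - 2) = 2 by omega] at h2
  norm_num at h2

/-- In `P` the normalizer of a subgroup containing one of order 27 and exponent three is a Sylow
subgroup of its normalizer. -/
theorem sylow_normalizer {R E : Subgroup G} (hRP : R ≤ (P : Subgroup G)) (hlt : R ≠ (P : Subgroup G))
    (hER : E ≤ R) (hE : Nat.card E = 27) (he : ∀ a ∈ E, a ^ 3 = 1) :
    ¬ 3 ∣ ((P : Subgroup G) ⊓ normalizer (R : Set G)).relIndex (normalizer (R : Set G)) := by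
  set N := normalizer (R : Set G)
  set T := (P : Subgroup G) ⊓ N with hT
  have hTp : IsPGroup 3 T := P.2.to_le inf_le_left
  have hRT : R ≤ T := le_inf hRP le_normalizer
  have hT3 : 3 * Nat.card R ≤ Nat.card T := by
    haveI := P.2.isNilpotent
    obtain ⟨y, hyP, hyN, hy⟩ := Isolated.exists_mem_normalizer_inf hRP fun hc => hlt (le_antisymm hRP hc)
    exact three_mul_card_le hTp (lt_of_le_of_ne hRT fun e => hy (e.ge ⟨hyP, hyN⟩))
  obtain ⟨S, hTS, hSN, hSp, hSi⟩ :=
    CfsgLib.Fusion.exists_le_not_dvd_relIndex hTp (inf_le_right : T ≤ N)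
  obtain ⟨g, -, hgS⟩ := CfsgLib.Fusion.exists_conj_le_of_not_dvd_relIndex P.2
    (le_top (a := (P : Subgroup G))) (by rw [relIndex_top_right]; exact P.not_dvd_index) hSp le_top
  have hcardS : Nat.card (conjBy g S) = Nat.card S := CfsgLib.Fusion.card_conjBy g S
  have hcardR : Nat.card (conjBy g R) = Nat.card R := CfsgLib.Fusion.card_conjBy g R
  have hRS : conjBy g R ≤ conjBy g S := CfsgLib.Fusion.conjBy_mono (hRT.trans hTS)
  have hR'P : conjBy g R ≤ (P : Subgroup G) := hRS.trans hgS
  have hE' : conjBy g E ≤ conjBy g R := CfsgLib.Fusion.conjBy_mono hER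
  obtain ⟨u, huE, hu1⟩ := SetLike.not_le_iff_exists.1 (h.not_le_levOne (E := conjBy g E)
    (by rw [CfsgLib.Fusion.card_conjBy g E, hE]) (by
      rintro _ ⟨a, ha, rfl⟩
      rw [← map_pow, he a ha, map_one]))
  have huR := hE' huE
  have huP := hR'P huR
  set K := conjBy g R ⊓ gamTwo (P : Subgroup G)
  have hnorm : conjBy g S ≤ normalizer (conjBy g R : Set G) := by
    have key : ∀ s ∈ conjBy g S, ∀ r ∈ conjBy g R, s * r * s⁻¹ ∈ conjBy g R := by
      rintro _ ⟨s, hs, rfl⟩ _ ⟨r, hr, rfl⟩
      exact ⟨s * r * s⁻¹, (mem_normalizer_iff.1 (hSN hs) r).1 hr, by simp [mul_assoc]⟩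
    intro s hs
    refine mem_normalizer_iff.2 fun r => ⟨key s hs r, fun hr => ?_⟩
    have := key s⁻¹ (inv_mem hs) _ hr
    simpa [mul_assoc] using this
  set C := (centralizer ({u} : Set G)).subgroupOf (conjBy g S)
  let φ : ↥(conjBy g S) ⧸ C → ↥K := fun q => ⟨⁅(q.out : G), u⁆, mem_inf.2
    ⟨by
      rw [commutatorElement_def]
      exact mul_mem ((mem_normalizer_iff.1 (hnorm q.out.2) u).1 huR) (inv_mem huR),
    commutator_mem_gamTwo (hgS q.out.2) huP⟩⟩
  have hinj : Function.Injective φ := fun q r hqr => by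
    have e : (q.out : G) * u * (q.out : G)⁻¹ * u⁻¹ = (r.out : G) * u * (r.out : G)⁻¹ * u⁻¹ :=
      congrArg Subtype.val hqr
    have e2 := mul_right_cancel e
    rw [← QuotientGroup.out_eq' q, ← QuotientGroup.out_eq' r, QuotientGroup.eq, mem_subgroupOf,
      mem_centralizer_singleton_iff]
    simp only [Subgroup.coe_mul, Subgroup.coe_inv]
    calc (q.out : G)⁻¹ * r.out * u = (q.out : G)⁻¹ * ((r.out : G) * u * (r.out : G)⁻¹) * r.out := by
          group
      _ = u * ((q.out : G)⁻¹ * r.out) := by rw [← e2]; group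
  have h1 : Nat.card (↥(conjBy g S) ⧸ C) ≤ Nat.card ↥K := Nat.card_le_card_of_injective φ hinj
  have h2 : Nat.card C ≤ 9 := by
    refine le_trans (le_of_eq ?_) (h.card_centralizer_le huP hu1 hgS)
    rw [← card_map_of_injective (conjBy g S).subtype_injective, subgroupOf_map_subtype, inf_comm]
  have h3 : 3 * Nat.card ↥K ≤ Nat.card R := by
    rw [← hcardR]
    exact three_mul_card_le (P.2.to_le hR'P) (lt_of_le_of_ne inf_le_left fun e =>
      hu1 (h.gamTwo_le (e.ge huR : u ∈ K).2))
  have h4 : Nat.card S ≤ 3 * Nat.card R := by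
    rw [← hcardS, ← C.card_mul_index, index_eq_card]
    exact (Nat.mul_le_mul h2 h1).trans (by omega)
  rwa [← eq_of_le_of_card_ge hTS (h4.trans hT3)] at hSi

end Setting

end CfsgLib.IsoRankTwo
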