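import Cfsg.Agent.Lib.IsolatedRankTwo.ThreeSeries

/-!
# The torus of an extraspecial subgroup of order 27

If the normalizer of a subgroup `E` of order 27 and exponent three moves the trace `F` of the two
step centralizer, it contains two transvections of `E / Z` with different axes, hence an element
inverting `E / Z`; this element normalizes `F`.
-/

set_option autoImplicit false
set_option linter.style.haveILetI false
set_option linter.unusedSectionVars false

open Subgroup
open scoped commutatorElement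

namespace CfsgLib.IsoRankTwo

open CfsgLib.MaxClassShift (gam gam_normal gam_anti gam_comm)
open CfsgLib.MaxClassUniform (Uniform)
open CfsgLib.MCFusion
open CfsgLib.Fusion (conjBy)

universe u

variable {G : Type u} [Group G] [Finite G] [hf3 : Fact (Nat.Prime 3)]

/-- Over a subgroup of index three an element of exponent three has three cosets. -/
theorem coset_trichotomy {K L : Subgroup G} (hL : IsPGroup 3 L) (hKL : K ≤ L)
    (hc : Nat.card L ≤ 3 * Nat.card K) (hn : L ≤ normalizer (K : Set G)) {f a : G} (hf : f ∈ L)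
    (hfK : f ∉ K) (hf3 : f ^ 3 = 1) (ha : a ∈ L) : a ∈ K ∨ a * f⁻¹ ∈ K ∨ a * f ∈ K := by
  have hle : K ⊔ zpowers f ≤ L := sup_le hKL (zpowers_le.2 hf)
  have hlt : K < K ⊔ zpowers f :=
    lt_of_le_of_ne le_sup_left fun e => hfK (e.ge (mem_sup_right (mem_zpowers f)))
  have heq := eq_of_le_of_card_ge hle (hc.trans (three_mul_card_le (hL.to_le hle) hlt))
  obtain ⟨k, hk, b, hb, rfl⟩ := CfsgLib.Coprime.mem_sup_exists
    ((zpowers_le.2 hf).trans hn) (heq ▸ ha : a ∈ K ⊔ zpowers f)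
  obtain ⟨i, rfl⟩ := mem_zpowers_iff.1 hb
  have hi : f ^ i = f ^ (i % 3) := by
    conv_lhs => rw [show i = i % 3 + 3 * (i / 3) by omega, zpow_add, zpow_mul,
      show f ^ (3 : ℤ) = 1 from mod_cast hf3, one_zpow, mul_one]
  rw [hi]
  rcases (show i % 3 = 0 ∨ i % 3 = 1 ∨ i % 3 = 2 by omega) with e | e | e
  · exact Or.inl (by rwa [e, zpow_zero, mul_one])
  · exact Or.inr (Or.inl (by rwa [e, zpow_one, mul_inv_cancel_right]))
  · refine Or.inr (Or.inr ?_)
    rwa [e, mul_assoc, show f ^ (2 : ℤ) * f = f ^ (3 : ℤ) by group, show f ^ (3 : ℤ) = 1 from mod_cast hf3,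
      mul_one]

/-- Conjugation by `g` sends `a` to `b` modulo `⟨x⟩`. -/
def Rel (x g a b : G) : Prop := g * a * g⁻¹ * b⁻¹ ∈ zpowers x

theorem rel_of_eq {x g a b : G} (e : g * a * g⁻¹ = b) : Rel x g a b := by
  rw [Rel, e, mul_inv_cancel]; exact one_mem _

namespace Setting

variable {P : Sylow 3 G} {x : G} {m : ℕ} (h : Setting P x m)
include h

theorem comm_zpowers {a z : G} (ha : a ∈ (P : Subgroup G)) (hz : z ∈ zpowers x) : a * z = z * a := by
  obtain ⟨i, rfl⟩ := mem_zpowers_iff.1 hz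
  exact (Commute.zpow_right (show Commute a x from
    mem_centralizer_singleton_iff.1 (Isolated.le_centralizer h.iso P.2 h.mem ha)) i).eq

/-- Commutators of `P` with the elements of order three of the two step centralizer. -/
theorem comm_mem_zpowers {a b : G} (ha : a ∈ (P : Subgroup G)) (hb : b ∈ levOne (P : Subgroup G))
    (hb3 : b ^ 3 = 1) : ⁅a, b⁆ ∈ zpowers x := by
  obtain ⟨w, hw⟩ := h.uni
  have hm := h.two
  obtain ⟨b', hb', rfl⟩ := hb
  have h1 := mem_of_cube_eq_one hw (by omega) h.rankP hb' (Subtype.ext hb3)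
  have h2 := gam_comm (a := 1) (b := 2 * m - 2) le_rfl (by omega) (mem_top (⟨a, ha⟩ : ↥(P : Subgroup G))) h1
  rw [show 1 + (2 * m - 2) = 2 * m - 1 by omega] at h2
  exact h.mem_zpowers_of_last h2

variable {E : Subgroup G}

theorem rel_comp (hEP : E ≤ (P : Subgroup G)) (hxE : x ∈ E) {k g a b c : G}
    (hk : k ∈ normalizer (E : Set G)) (h1 : Rel x g a b) (h2 : Rel x k b c) : Rel x (k * g) a c := by
  have h3 : k * (g * a * g⁻¹ * b⁻¹) * k⁻¹ ∈ zpowers x :=
    (mem_normalizer_iff.1 (h.normalizer_le_zpowers hEP hxE hk) _).1 h1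
  have h4 := mul_mem h3 h2
  unfold Rel
  convert h4 using 1
  group

theorem rel_mul {g a b a' b' : G} (hb : b ∈ (P : Subgroup G)) (h1 : Rel x g a b) (h2 : Rel x g a' b') :
    Rel x g (a * a') (b * b') := by
  unfold Rel at h1 h2 ⊢
  rw [show g * (a * a') * g⁻¹ * (b * b')⁻¹ =
    (g * a * g⁻¹ * b⁻¹) * (b * (g * a' * g⁻¹ * b'⁻¹) * b⁻¹) by group, h.comm_zpowers hb h2,
    mul_inv_cancel_right]
  exact mul_mem h1 h2

theorem rel_inv {g a b : G} (hb : b ∈ (P : Subgroup G)) (h1 : Rel x g a b) : Rel x g a⁻¹ b⁻¹ := by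
  unfold Rel at h1 ⊢
  rw [show g * a⁻¹ * g⁻¹ * b⁻¹⁻¹ = b⁻¹ * (g * a * g⁻¹ * b⁻¹)⁻¹ * b by group,
    h.comm_zpowers (inv_mem hb) (inv_mem h1), inv_mul_cancel_right]
  exact inv_mem h1

omit h in
theorem rel_trans {g a b b' : G} (h1 : Rel x g a b) (h2 : b * b'⁻¹ ∈ zpowers x) : Rel x g a b' := by
  unfold Rel at h1 ⊢
  have := mul_mem h1 h2
  rwa [show g * a * g⁻¹ * b⁻¹ * (b * b'⁻¹) = g * a * g⁻¹ * b'⁻¹ by group] at this

/-- An element inverting `E / Z` and normalizing the trace of the two step centralizer. -/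
theorem exists_torus (hEP : E ≤ (P : Subgroup G)) (hE : Nat.card E = 27) (he : ∀ a ∈ E, a ^ 3 = 1)
    (hxE : x ∈ E) {y f : G} (hy : y ∈ normalizer (E : Set G))
    (hf : f ∈ E ⊓ levOne (P : Subgroup G)) (hyf : y * f * y⁻¹ ∉ levOne (P : Subgroup G)) :
    ∃ e ∈ E, e ∉ levOne (P : Subgroup G) ∧ ∃ τ ∈ normalizer (E : Set G),
      τ ∈ normalizer ((E ⊓ levOne (P : Subgroup G) : Subgroup G) : Set G) ∧
      τ * e * τ⁻¹ * e ∈ zpowers x := by
  classical
  obtain ⟨w, hw⟩ := h.uni
  have hm := h.two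
  set F := E ⊓ levOne (P : Subgroup G) with hF
  set e := y * f * y⁻¹ with hedef
  have heE : e ∈ E := (mem_normalizer_iff.1 hy f).1 hf.1
  have heP := hEP heE
  have hfP := hEP hf.1
  have hE3 : IsPGroup 3 E := P.2.to_le hEP
  have hxF : x ∈ F := mem_inf.2 ⟨hxE, h.mem_levOne_self⟩
  have hFne : F < E := lt_of_le_of_ne inf_le_left fun e' => hyf (e'.ge heE : e ∈ F).2
  have hfZ : f ∉ zpowers x := by
    intro hc
    obtain ⟨i, hi⟩ := mem_zpowers_iff.1 hc
    refine hyf ?_
    rw [hedef, ← hi, ← conj_zpow, h.fix hEP hxE hy, hi]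
    exact hf.2
  have hZF : zpowers x < F :=
    lt_of_le_of_ne (zpowers_le.2 hxF) fun e' => hfZ (e'.ge hf)
  have hF9 : Nat.card F = 9 := by
    have h1 := three_mul_card_le hE3 hFne
    have h2 := three_mul_card_le (hE3.to_le (inf_le_left : F ≤ E)) hZF
    rw [Nat.card_zpowers, h.ord] at h2
    rw [hE] at h1
    simp only [← hF] at h1 h2 ⊢
    obtain ⟨k, hk⟩ := (hE3.to_le (inf_le_left : F ≤ E)).exists_card_eq
    change Nat.card F = 9
    omega
  have hnE : E ≤ normalizer (F : Set G) := by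
    haveI := lev_normal hw 1
    intro s hs
    refine mem_normalizer_iff.2 fun a => ?_
    have key : ∀ s ∈ E, ∀ a ∈ F, s * a * s⁻¹ ∈ F := fun s hs a ha => by
      refine mem_inf.2 ⟨mul_mem (mul_mem hs ha.1) (inv_mem hs), ?_⟩
      exact (mem_levOne (mul_mem (mul_mem (hEP hs) (hEP ha.1)) (inv_mem (hEP hs)))).2
        ((lev_normal hw 1).conj_mem _ ((mem_levOne (hEP ha.1)).1 ha.2) ⟨s, hEP hs⟩)
    refine ⟨key s hs a, fun ha => ?_⟩
    have := key s⁻¹ (inv_mem hs) _ ha
    simpa [mul_assoc] using this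
  have hFZ : F ≤ normalizer (zpowers x : Set G) := fun s hs =>
    h.normalizer_le_zpowers hEP hxE (le_normalizer hs.1)
  have triZ : ∀ g ∈ F, g ∉ zpowers x → ∀ a ∈ F,
      a ∈ zpowers x ∨ a * g⁻¹ ∈ zpowers x ∨ a * g ∈ zpowers x := fun g hg hgZ a ha =>
    coset_trichotomy (hE3.to_le inf_le_left) (zpowers_le.2 hxF)
      (by rw [hF9, Nat.card_zpowers, h.ord]) hFZ hg hgZ (he g hg.1) ha
  -- a transvection in the normalizer in `P`
  set T := (P : Subgroup G) ⊓ normalizer (E : Set G) with hT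
  have hlt : E < T := by
    refine lt_of_le_of_ne (le_inf hEP le_normalizer) fun e' => ?_
    haveI := P.2.isNilpotent
    by_cases hPE : (P : Subgroup G) ≤ E
    · have h1 := card_le_of_le hPE
      rw [hw.card, hE] at h1
      have h2 := (Nat.pow_le_pow_right (show 3 > 0 by norm_num) (show 4 ≤ 2 * m by omega)).trans h1
      norm_num at h2
    · obtain ⟨s, hsP, hsN, hs⟩ := Isolated.exists_mem_normalizer_inf hEP hPE
      exact hs (e'.ge ⟨hsP, hsN⟩)
  obtain ⟨t, htT, ht⟩ : ∃ t ∈ T, ⁅t, e⁆ ∉ zpowers x := by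
    by_contra hcon
    push Not at hcon
    set C := (centralizer ({e} : Set G)).subgroupOf T
    let φ : ↥T ⧸ C → ↥(zpowers x) := fun q => ⟨⁅(q.out : G), e⁆, hcon _ q.out.2⟩
    have hinj : Function.Injective φ := fun q r hqr => by
      have e1 : (q.out : G) * e * (q.out : G)⁻¹ * e⁻¹ = (r.out : G) * e * (r.out : G)⁻¹ * e⁻¹ :=
        congrArg Subtype.val hqr
      have e2 := mul_right_cancel e1
      rw [← QuotientGroup.out_eq' q, ← QuotientGroup.out_eq' r, QuotientGroup.eq, mem_subgroupOf,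
        mem_centralizer_singleton_iff]
      simp only [Subgroup.coe_mul, Subgroup.coe_inv]
      calc (q.out : G)⁻¹ * r.out * e = (q.out : G)⁻¹ * ((r.out : G) * e * (r.out : G)⁻¹) * r.out := by
            group
        _ = e * ((q.out : G)⁻¹ * r.out) := by rw [← e2]; group
    have h1 := Nat.card_le_card_of_injective φ hinj
    rw [Nat.card_zpowers, h.ord, ← index_eq_card] at h1
    have h2 : Nat.card C ≤ 9 := by
      refine le_trans (le_of_eq ?_) (h.card_centralizer_le heP hyf (inf_le_left : T ≤ (P : Subgroup G)))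
      rw [← card_map_of_injective T.subtype_injective, subgroupOf_map_subtype, inf_comm]
    have h3 := three_mul_card_le (P.2.to_le (inf_le_left : T ≤ (P : Subgroup G))) hlt
    rw [hE, ← C.card_mul_index] at h3
    have := Nat.mul_le_mul h2 h1
    omega
  have htP : t ∈ (P : Subgroup G) := htT.1
  have htN : t ∈ normalizer (E : Set G) := htT.2
  set f1 := ⁅t, e⁆ with hf1def
  have hf1 : f1 ∈ F := mem_inf.2 ⟨by
      rw [hf1def, commutatorElement_def]
      exact mul_mem ((mem_normalizer_iff.1 htN e).1 heE) (inv_mem heE),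
    h.gamTwo_le (commutator_mem_gamTwo htP heP)⟩
  have hf1P := hEP hf1.1
  have hte : Rel x t e (f1 * e) := rel_of_eq (by rw [hf1def, commutatorElement_def]; group)
  have htF : ∀ a ∈ F, Rel x t a a := fun a ha => by
    have := h.comm_mem_zpowers htP ha.2 (he a ha.1)
    rwa [commutatorElement_def] at this
  -- the conjugate transvection
  set g0 := y⁻¹ * f1 * y with hg0def
  have hg0 : g0 ∈ E := (mem_normalizer_iff''.1 hy f1).1 hf1.1
  have hyg : y * g0 * y⁻¹ = f1 := by rw [hg0def]; group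
  have hg0F : g0 ∉ F := fun hc => by
    rcases triZ f hf hfZ g0 hc with h1 | h1 | h1
    · refine ht ?_
      rw [← hyg]
      exact (mem_normalizer_iff.1 (h.normalizer_le_zpowers hEP hxE hy) _).1 h1
    · refine hyf ?_
      have h2 : Rel x y g0 e := by
        have h3 := (mem_normalizer_iff.1 (h.normalizer_le_zpowers hEP hxE hy) _).1 h1
        unfold Rel
        convert h3 using 1
        rw [hedef]; group
      rw [Rel, hyg] at h2
      have h4 := mul_mem (inv_mem ((zpowers_le.2 h.mem_levOne_self) h2)) (mem_inf.1 hf1).2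
      rwa [show (f1 * e⁻¹)⁻¹ * f1 = e by group] at h4
    · refine hyf ?_
      have h3 := (mem_normalizer_iff.1 (h.normalizer_le_zpowers hEP hxE hy) _).1 h1
      rw [show y * (g0 * f) * y⁻¹ = y * g0 * y⁻¹ * (y * f * y⁻¹) by group, hyg] at h3
      have h4 := mul_mem (inv_mem (mem_inf.1 hf1).2) ((zpowers_le.2 h.mem_levOne_self) h3)
      rwa [inv_mul_cancel_left] at h4
  set d := ⁅t, g0⁆ with hddef
  have hd : d ∈ F := mem_inf.2 ⟨by
      rw [hddef, commutatorElement_def]
      exact mul_mem ((mem_normalizer_iff.1 htN g0).1 hg0) (inv_mem hg0),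
    h.gamTwo_le (commutator_mem_gamTwo htP (hEP hg0))⟩
  have hdZ : d ∉ zpowers x := by
    intro hc
    have hg : Rel x t g0 g0 := by rwa [hddef, commutatorElement_def] at hc
    have hfin : Rel x t e e → False := fun h1 => ht (by rwa [hf1def, commutatorElement_def])
    rcases coset_trichotomy hE3 inf_le_left (by rw [hE, hF9]) hnE heE (fun hc => hyf hc.2)
      (he e heE) hg0 with h1 | h1 | h1
    · exact hg0F h1
    · refine hfin ?_
      have h2 := h.rel_mul (inv_mem (hEP h1.1))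
        (h.rel_inv (hEP h1.1) (htF _ h1)) hg
      rwa [mul_inv_rev, inv_inv, inv_mul_cancel_right] at h2
    · refine hfin ?_
      have h2 := h.rel_mul (inv_mem (hEP hg0)) (h.rel_inv (hEP hg0) hg) (htF _ h1)
      rwa [inv_mul_cancel_left] at h2
  set u0 := y * t * y⁻¹ with hu0
  have hu0N : u0 ∈ normalizer (E : Set G) := mul_mem (mul_mem hy htN) (inv_mem hy)
  have hZy : ∀ z ∈ zpowers x, y * z * y⁻¹ ∈ zpowers x := fun z hz =>
    (mem_normalizer_iff.1 (h.normalizer_le_zpowers hEP hxE hy) z).1 hz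
  have hu0e : Rel x u0 e e := by
    unfold Rel
    convert hZy _ (htF f hf) using 1
    rw [hu0, hedef]; group
  have hcomm : ∀ a ∈ (P : Subgroup G), ∀ b ∈ F, a * b * (b * a)⁻¹ ∈ zpowers x := fun a ha b hb => by
    have := h.comm_mem_zpowers ha hb.2 (he b hb.1)
    rwa [commutatorElement_def, show a * b * a⁻¹ * b⁻¹ = a * b * (b * a)⁻¹ by group] at this
  have hee : e * e = e⁻¹ := eq_inv_of_mul_eq_one_left (by rw [← pow_three' e, he e heE])
  have hu0f : u0 * f1 * u0⁻¹ = y * d * y⁻¹ * f1 := by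
    rw [hu0, hddef, hg0def, commutatorElement_def]; group
  obtain ⟨u, huN, hue, huf⟩ : ∃ u ∈ normalizer (E : Set G), Rel x u e e ∧ Rel x u f1 (f1 * e⁻¹) := by
    rcases triZ f hf hfZ d hd with h1 | h1 | h1
    · exact absurd h1 hdZ
    · have h2 : Rel x u0 f1 (e * f1) := by
        unfold Rel
        rw [hu0f]
        convert hZy _ h1 using 1
        rw [hedef]; group
      have h3 := rel_trans h2 (hcomm e heP f1 hf1)
      have h4 := h.rel_comp hEP hxE hu0N h3 (h.rel_mul (mul_mem hf1P heP) h3 hu0e)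
      rw [mul_assoc f1, hee] at h4
      exact ⟨u0 * u0, mul_mem hu0N hu0N, h.rel_comp hEP hxE hu0N hu0e hu0e, h4⟩
    · have h2 : Rel x u0 f1 (e⁻¹ * f1) := by
        unfold Rel
        rw [hu0f]
        convert hZy _ h1 using 1
        rw [hedef]; group
      exact ⟨u0, hu0N, hu0e, rel_trans h2 (hcomm e⁻¹ (inv_mem heP) f1 hf1)⟩
  -- the product of the transvections
  have heq : Rel x (t * (u * t)) e f1 := by
    refine h.rel_comp hEP hxE htN (h.rel_comp hEP hxE huN hte ?_) (htF f1 hf1)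
    have := h.rel_mul (mul_mem hf1P (inv_mem heP)) huf hue
    rwa [inv_mul_cancel_right] at this
  have hfq : Rel x (t * (u * t)) f1 e⁻¹ := by
    refine h.rel_comp hEP hxE htN (h.rel_comp hEP hxE huN (htF f1 hf1) huf) ?_
    refine rel_trans (h.rel_mul hf1P (htF f1 hf1) (h.rel_inv (mul_mem hf1P heP) hte)) ?_
    have := inv_mem (hcomm (e⁻¹) (inv_mem heP) f1 hf1)
    rwa [show (e⁻¹ * f1 * (f1 * e⁻¹)⁻¹)⁻¹ = f1 * (f1 * e)⁻¹ * e⁻¹⁻¹ by group] at this
  have hwN : t * (u * t) ∈ normalizer (E : Set G) := mul_mem htN (mul_mem huN htN)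
  set τ := t * (u * t) * (t * (u * t))
  have hτN : τ ∈ normalizer (E : Set G) := mul_mem hwN hwN
  have hτe : Rel x τ e e⁻¹ := h.rel_comp hEP hxE hwN heq hfq
  have hτf : Rel x τ f1 f1⁻¹ := h.rel_comp hEP hxE hwN hfq (h.rel_inv hf1P heq)
  refine ⟨e, heE, hyf, τ, hτN, ?_, by simpa [Rel] using hτe⟩
  refine CfsgLib.Fusion.conjBy_eq_iff.1 (CfsgLib.Fusion.conjBy_eq_of_le
    (CfsgLib.Fusion.conjBy_le_iff.2 fun a ha => ?_))
  have hZle : zpowers x ≤ F := zpowers_le.2 hxF
  have hZτ : ∀ z ∈ zpowers x, τ * z * τ⁻¹ ∈ F := fun z hz =>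
    hZle ((mem_normalizer_iff.1 (h.normalizer_le_zpowers hEP hxE hτN) z).1 hz)
  have hτf' : τ * f1 * τ⁻¹ ∈ F := by
    have := mul_mem (hZle hτf) (inv_mem hf1)
    rwa [inv_mul_cancel_right] at this
  rcases triZ f1 hf1 ht a ha with h1 | h1 | h1
  · exact hZτ a h1
  · have := mul_mem (hZτ _ h1) hτf'
    rwa [show τ * (a * f1⁻¹) * τ⁻¹ * (τ * f1 * τ⁻¹) = τ * a * τ⁻¹ by group] at this
  · have := mul_mem (hZτ _ h1) (inv_mem hτf')
    rwa [show τ * (a * f1) * τ⁻¹ * (τ * f1 * τ⁻¹)⁻¹ = τ * a * τ⁻¹ by group] at this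

end Setting

end CfsgLib.IsoRankTwo
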